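import Cfsg.Agent.Lib.Classical.SympCompanion
import Cfsg.Agent.Lib.Classical.SympClassCount
import Cfsg.Agent.Lib.Classical.SpClassBound.Ring
import Cfsg.Agent.Lib.Classical.SymmDisc
import Cfsg.Agent.Lib.Classical.Forms
import Mathlib.LinearAlgebra.Charpoly.ToMatrix
import Mathlib.LinearAlgebra.Matrix.BilinearForm

/-!
Palindromic polynomials as characteristic polynomials of orthogonal transformations.
-/

set_option autoImplicit false
set_option linter.style.haveILetI false
set_option linter.unusedSectionVars false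

namespace CfsgLib.Classical.OrthClassBound

open Polynomial Module Matrix CfsgLib.Classical.SympClassCount

open scoped _root_.Classical

variable {K : Type*} [Field K]

theorem nonsquare_mul [Finite K] {a b : K} (ha : ¬ IsSquare a) (hb : ¬ IsSquare b) : IsSquare (a * b) := by
  letI := Fintype.ofFinite K
  have ha0 : a ≠ 0 := fun h => ha (h ▸ IsSquare.zero)
  have hb0 : b ≠ 0 := fun h => hb (h ▸ IsSquare.zero)
  rw [← quadraticChar_neg_one_iff_not_isSquare] at ha hb
  exact (quadraticChar_one_iff_isSquare (mul_ne_zero ha0 hb0)).mp (by rw [map_mul, ha, hb]; rfl)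

section congr

variable {V : Type*} [AddCommGroup V] [Module K V] [FiniteDimensional K V]

/-- An orthogonal basis with the discriminant at the last place. -/
theorem exists_basis_disc [Finite K] (h2 : (2 : K) ≠ 0) {α : K} (hα : ¬ IsSquare α) {N : ℕ}
    (B : LinearMap.BilinForm K V) (hs : ∀ x y, B x y = B y x) (hn : ∀ v, (∀ w, B v w = 0) → v = 0)
    (hd : finrank K V = N + 1) {κ : Type*} [Fintype κ] [DecidableEq κ] (b : Basis κ K V) :
    ∃ (b' : Basis (Fin (N + 1)) K V) (d : K), (d = 1 ∨ d = α) ∧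
      (∀ i j, B (b' i) (b' j) = if i = j then (if i = Fin.last N then d else 1) else 0) ∧
      ∃ t : K, t ≠ 0 ∧ (LinearMap.toMatrix₂ b b B).det = t * t * d := by
  obtain ⟨b', ho, h1, hl⟩ := CfsgLib.Forms.exists_orthogonal_basis_one h2 α hα N B hs hn hd
  have hM : ∀ i j, B (b' i) (b' j) = if i = j then (if i = Fin.last N then B (b' (Fin.last N)) (b' (Fin.last N)) else 1) else 0 := by
    intro i j
    by_cases hij : i = j
    · subst hij
      by_cases hi : i = Fin.last N
      · subst hi; simp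
      · simp [hi, h1 i hi]
    · simp [hij, ho i j hij]
  obtain ⟨t, ht, htd⟩ := SymmDisc.toMatrix_change B b b' (b.indexEquiv b')
  refine ⟨b', _, hl, hM, t, ht, ?_⟩
  rw [htd]
  congr 1
  rw [show LinearMap.toMatrix₂ b' b' B =
      Matrix.diagonal fun i => if i = Fin.last N then B (b' (Fin.last N)) (b' (Fin.last N)) else 1 by
    ext i j
    rw [LinearMap.toMatrix₂_apply, hM, Matrix.diagonal_apply], Matrix.det_diagonal]
  simp

variable {W : Type*} [AddCommGroup W] [Module K W] [FiniteDimensional K W]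

/-- Symmetric forms with the same discriminant are isometric. -/
theorem exists_congr [Finite K] (h2 : (2 : K) ≠ 0) {N : ℕ}
    (B : LinearMap.BilinForm K V) (hBs : ∀ x y, B x y = B y x) (hBn : ∀ v, (∀ w, B v w = 0) → v = 0)
    (C : LinearMap.BilinForm K W) (hCs : ∀ x y, C x y = C y x) (hCn : ∀ v, (∀ w, C v w = 0) → v = 0)
    (hV : finrank K V = N + 1) (hW : finrank K W = N + 1)
    {κ : Type*} [Fintype κ] [DecidableEq κ] (b : Basis κ K V) {κ' : Type*} [Fintype κ'] [DecidableEq κ'] (c : Basis κ' K W)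
    (hsq : IsSquare ((LinearMap.toMatrix₂ b b B).det * (LinearMap.toMatrix₂ c c C).det)) :
    ∃ f : W ≃ₗ[K] V, ∀ x y, B (f x) (f y) = C x y := by
  letI := Fintype.ofFinite K
  obtain ⟨α, hα⟩ := FiniteField.exists_nonsquare (F := K) (fun h => by
    have := ringChar.Nat.cast_ringChar (R := K)
    rw [h] at this
    exact h2 (by exact_mod_cast this))
  have hα0 : α ≠ 0 := fun h => hα (h ▸ IsSquare.zero)
  obtain ⟨b', d, hd, hB, t, ht, htd⟩ := exists_basis_disc h2 hα B hBs hBn hV b
  obtain ⟨c', d', hd', hC, s, hs, hsd⟩ := exists_basis_disc h2 hα C hCs hCn hW c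
  have hdd : d = d' := by
    have hno : ¬ IsSquare ((t * t * 1) * (s * s * α)) := fun ⟨u, hu⟩ =>
      hα ⟨u / (t * s), by field_simp; linear_combination hu⟩
    have hno' : ¬ IsSquare ((t * t * α) * (s * s * 1)) := fun ⟨u, hu⟩ =>
      hα ⟨u / (t * s), by field_simp; linear_combination hu⟩
    rw [htd, hsd] at hsq
    rcases hd with rfl | rfl <;> rcases hd' with rfl | rfl
    · rfl
    · exact absurd hsq hno
    · exact absurd hsq hno'
    · rfl
  subst hdd
  refine ⟨c'.equiv b' (Equiv.refl _), fun x y => ?_⟩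
  have h : B.compl₁₂ (c'.equiv b' (Equiv.refl _)).toLinearMap (c'.equiv b' (Equiv.refl _)).toLinearMap = C :=
    LinearMap.ext_basis c' c' fun i j => by simp [hB, hC]
  exact LinearMap.congr_fun₂ h x y

end congr

variable {n : ℕ}

theorem exists_pal_factor (h2 : (2 : K) ≠ 0) {f : K[X]} (hf : IsPal n f) :
    ∃ (k a b : ℕ) (g : K[X]), IsPal k g ∧ g.eval 1 ≠ 0 ∧ g.eval (-1) ≠ 0 ∧
      f = g * (X - C 1) ^ (2 * a) * (X - C (-1)) ^ (2 * b) ∧ k + a + b = n := by
  obtain ⟨hm, hd, h0, hrev⟩ := hf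
  obtain ⟨f₁, hf₁, hn1⟩ := exists_eq_pow_rootMultiplicity_mul_and_not_dvd f hm.ne_zero 1
  set A := f.rootMultiplicity 1
  have hf₁0 : f₁ ≠ 0 := fun h => hn1 (h ▸ dvd_zero _)
  obtain ⟨g, hg, hn2⟩ := exists_eq_pow_rootMultiplicity_mul_and_not_dvd f₁ hf₁0 (-1)
  set B := f₁.rootMultiplicity (-1)
  have hg1 : g.eval 1 ≠ 0 := fun h => hn1 (dvd_iff_isRoot.mpr (by simp [IsRoot, hg, h]))
  have hgn : g.eval (-1) ≠ 0 := fun h => hn2 (dvd_iff_isRoot.mpr h)
  have hgm : g.Monic := by
    rw [hf₁, hg] at hm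
    exact ((monic_X_sub_C (-1 : K)).pow B).of_mul_monic_left (((monic_X_sub_C (1 : K)).pow A).of_mul_monic_left hm)
  have hA := (SpClassBound.isRecip_linear (one_mul (1 : K))).pow A
  have hB := (SpClassBound.isRecip_linear (by norm_num : (-1 : K) * -1 = 1)).pow B
  have hz : (-1 : K) ^ A * g.coeff 0 = 1 := by
    rw [hf₁, hg, mul_coeff_zero, mul_coeff_zero, coeff_zero_eq_eval_zero ((X - C (1 : K)) ^ A),
      coeff_zero_eq_eval_zero ((X - C (-1 : K)) ^ B)] at h0
    simpa using h0
  have hc1 : ((X - C (1 : K)) ^ A).coeff 0 = (-1) ^ A := by rw [coeff_zero_eq_eval_zero]; simp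
  have hc2 : ((X - C (-1 : K)) ^ B).coeff 0 = 1 := by rw [coeff_zero_eq_eval_zero]; simp
  have hgr : g.reverse = C ((-1 : K) ^ A) * g := by
    have e := hrev
    rw [hf₁, hg, reverse_mul_of_domain, reverse_mul_of_domain, hA.2.2, hB.2.2, hc1, hc2, C_1, one_mul] at e
    have e' : C ((-1 : K) ^ A) * g.reverse = g := mul_left_cancel₀ (pow_ne_zero B (X_sub_C_ne_zero (-1 : K)))
      (mul_left_cancel₀ (pow_ne_zero A (X_sub_C_ne_zero (1 : K))) (by simp only [C_1] at e ⊢; linear_combination e))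
    conv_rhs => rw [← e']
    rw [← mul_assoc, ← C_mul, ← mul_pow, neg_mul_neg, one_mul, one_pow, C_1, one_mul]
  have hAev : (-1 : K) ^ A = 1 := by
    have h := congrArg (eval (1 : K)) hgr
    rw [eval_mul, eval_C] at h
    have hr : g.reverse.eval 1 = g.eval 1 := by
      letI : Invertible (1 : K) := invertibleOne
      simpa using Polynomial.eval₂_reverse_mul_pow (RingHom.id K) 1 g
    rw [hr] at h
    exact mul_right_cancel₀ hg1 (h.symm.trans (one_mul _).symm)
  rw [hAev, one_mul] at hz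
  rw [hAev, C_1, one_mul] at hgr
  obtain ⟨a, ha⟩ : Even A := by
    rcases Nat.even_or_odd A with h | h
    · exact h
    · rw [h.neg_one_pow] at hAev
      exact absurd (show (2 : K) = 0 by linear_combination -hAev) h2
  obtain ⟨k, hk⟩ : Even g.natDegree := by
    by_contra hodd
    rw [Nat.not_even_iff_odd] at hodd
    letI : Invertible (-1 : K) := ⟨-1, by simp, by simp⟩
    have h := Polynomial.eval₂_reverse_mul_pow (RingHom.id K) (-1) g
    rw [show (⅟(-1 : K)) = -1 from rfl, hgr, hodd.neg_one_pow, mul_neg_one,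
      show eval₂ (RingHom.id K) (-1) g = g.eval (-1) from rfl] at h
    have h4 : (2 : K) * g.eval (-1) = 0 := by linear_combination -h
    exact hgn ((mul_eq_zero.mp h4).resolve_left h2)
  have hdeg : A + (B + g.natDegree) = 2 * n := by
    rw [← hd, hf₁, hg, ((monic_X_sub_C (1 : K)).pow A).natDegree_mul (((monic_X_sub_C (-1 : K)).pow B).mul hgm),
      ((monic_X_sub_C (-1 : K)).pow B).natDegree_mul hgm, natDegree_pow, natDegree_pow, natDegree_X_sub_C,
      natDegree_X_sub_C, mul_one, mul_one]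
  obtain ⟨b, hb⟩ : Even B := ⟨B / 2, by omega⟩
  refine ⟨k, a, b, g, ⟨hgm, by omega, hz, hgr⟩, hg1, hgn, ?_, by omega⟩
  rw [hf₁, hg, two_mul, ← ha, two_mul, ← hb]
  ring

/-- A model of an isometry with given characteristic polynomial. -/
theorem exists_model (h2 : (2 : K) ≠ 0) {k a b : ℕ} {g : K[X]} (hg : IsPal k g) (hg1 : g.eval 1 ≠ 0)
    (hgn : g.eval (-1) ≠ 0) (d : Fin (2 * a) ⊕ Fin (2 * b) → K) (hd : ∀ i, d i ≠ 0) :
    ∃ M A : Matrix ((Fin k ⊕ Fin k) ⊕ (Fin (2 * a) ⊕ Fin (2 * b))) ((Fin k ⊕ Fin k) ⊕ (Fin (2 * a) ⊕ Fin (2 * b))) K,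
      Mᵀ = M ∧ M.det ≠ 0 ∧ M.det = g.eval 1 * g.eval (-1) * ∏ i, d i ∧ Aᵀ * M * A = M ∧
      A.charpoly = g * (X - C 1) ^ (2 * a) * (X - C (-1)) ^ (2 * b) := by
  obtain ⟨h, hh⟩ := SympCompanion.exists_charpoly (n := k) g hg.1 hg.2.1 hg.2.2.1 hg.2.2.2
  set H := (h : Matrix (Fin k ⊕ Fin k) (Fin k ⊕ Fin k) K)
  set Hi := ((h⁻¹ : symplecticGroup (Fin k) K) : Matrix (Fin k ⊕ Fin k) (Fin k ⊕ Fin k) K)
  set J := Matrix.J (Fin k) K
  have hJH : Hᵀ * J * H = J := SymplecticGroup.mem_iff'.mp h.2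
  have hHi : H * Hi = 1 := by
    rw [← Submonoid.coe_mul, mul_inv_cancel, Submonoid.coe_one]
  have hiH : Hi * H = 1 := by
    rw [← Submonoid.coe_mul, inv_mul_cancel, Submonoid.coe_one]
  have e1 : Hᵀ * J = J * Hi := by
    calc Hᵀ * J = Hᵀ * J * (H * Hi) := by rw [hHi, mul_one]
      _ = J * Hi := by rw [← mul_assoc, hJH]
  have e2 : Hiᵀ * J = J * H := by
    calc Hiᵀ * J = Hiᵀ * (Hᵀ * J * H) := by rw [hJH]
      _ = J * H := by rw [← mul_assoc, ← mul_assoc, ← transpose_mul, hHi, transpose_one, one_mul]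
  set S := J * (Hi - H) with hS
  have hSt : Sᵀ = S := by
    rw [hS, transpose_mul, Matrix.J_transpose, transpose_sub, mul_neg, sub_mul, e1, e2, ← mul_sub, ← mul_neg,
      neg_sub]
  have hSinv : Hᵀ * S * H = S := by
    rw [hS, ← mul_assoc Hᵀ, e1, mul_assoc, mul_assoc, sub_mul, hiH, mul_sub, mul_one, ← mul_assoc Hi H, hiH, one_mul]
  have hcard : ∀ (M : Matrix (Fin k ⊕ Fin k) (Fin k ⊕ Fin k) K), (-M).det = M.det := fun M => by
    rw [det_neg, Fintype.card_sum, Fintype.card_fin, ← two_mul, pow_mul, neg_one_sq, one_pow, one_mul]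
  have hSdet : S.det = g.eval 1 * g.eval (-1) := by
    have hf : Hi - H = -(Hi * ((H - 1) * (H + 1))) := by
      rw [show (H - 1) * (H + 1) = H * H - 1 by noncomm_ring, mul_sub, ← mul_assoc, hiH, one_mul, mul_one, neg_sub]
    rw [hS, det_mul, hf, hcard, det_mul, det_mul, SymplecticGroup.det_eq_one (SymplecticGroup.J_mem _ _),
      SymplecticGroup.det_eq_one (h⁻¹).2, one_mul, one_mul, ← hh, eval_charpoly, eval_charpoly]
    congr 1
    · rw [← hcard, neg_sub]; simp [H]
    · rw [← hcard]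
      congr 1
      ext i j
      simp [H, Matrix.one_apply, Matrix.diagonal_apply]
      split_ifs <;> ring
  let E : Fin (2 * a) ⊕ Fin (2 * b) → K := Sum.elim (fun _ => 1) (fun _ => -1)
  refine ⟨fromBlocks S 0 0 (diagonal d), fromBlocks H 0 0 (diagonal E), ?_, ?_, ?_, ?_, ?_⟩
  · rw [fromBlocks_transpose, hSt, transpose_zero, transpose_zero, diagonal_transpose]
  · rw [det_fromBlocks_zero₁₂, det_diagonal, hSdet]
    exact mul_ne_zero (mul_ne_zero hg1 hgn) (Finset.prod_ne_zero_iff.mpr fun i _ => hd i)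
  · rw [det_fromBlocks_zero₁₂, det_diagonal, hSdet]
  · have hE : diagonal E * diagonal d * diagonal E = diagonal d := by
      rw [diagonal_mul_diagonal, diagonal_mul_diagonal]
      congr 1
      funext i
      rcases i with i | i <;> simp [E]
    simp only [fromBlocks_transpose, fromBlocks_multiply, transpose_zero, Matrix.mul_zero, Matrix.zero_mul, add_zero,
      zero_add, hSinv, diagonal_transpose, hE]
  · rw [charpoly_fromBlocks_zero₁₂, hh, charpoly_diagonal, Fintype.prod_sum_type]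
    simp [E, mul_assoc]

variable [Fintype K] {V : Type*} [AddCommGroup V] [Module K V] [FiniteDimensional K V]

/-- Palindromic polynomials of the right type are realised. -/
theorem exists_isometry (h2 : (2 : K) ≠ 0) (hn : 1 ≤ n) (B : LinearMap.BilinForm K V) (hs : ∀ x y, B x y = B y x)
    (hnd : ∀ v, (∀ w, B v w = 0) → v = 0) (hV : finrank K V = 2 * n) {κ : Type*} [Fintype κ] [DecidableEq κ]
    (bV : Basis κ K V) {f : K[X]} (hf : IsPal n f)
    (hT : f.eval 1 * f.eval (-1) = 0 ∨ IsSquare ((LinearMap.toMatrix₂ bV bV B).det * (f.eval 1 * f.eval (-1)))) :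
    ∃ g : V ≃ₗ[K] V, (∀ x y, B (g x) (g y) = B x y) ∧ (g : V →ₗ[K] V).charpoly = f := by
  obtain ⟨k, a, b, g, hg, hg1, hgn, hfg, hsum⟩ := exists_pal_factor h2 hf
  set δ := (LinearMap.toMatrix₂ bV bV B).det
  have hδ : δ ≠ 0 := SymmDisc.det_ne_zero B hnd bV
  obtain ⟨d, hd, hdsq⟩ : ∃ d : Fin (2 * a) ⊕ Fin (2 * b) → K, (∀ i, d i ≠ 0) ∧
      IsSquare (δ * (g.eval 1 * g.eval (-1) * ∏ i, d i)) := by
    rcases isEmpty_or_nonempty (Fin (2 * a) ⊕ Fin (2 * b)) with he | ⟨⟨i0⟩⟩
    · refine ⟨fun _ => 1, fun _ => one_ne_zero, ?_⟩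
      have ha : a = 0 := by
        by_contra h
        exact he.false (Sum.inl ⟨0, by omega⟩)
      have hb : b = 0 := by
        by_contra h
        exact he.false (Sum.inr ⟨0, by omega⟩)
      subst ha hb
      simp only [mul_zero, pow_zero, mul_one] at hfg
      subst hfg
      rw [Finset.prod_const_one, mul_one]
      exact hT.resolve_left (mul_ne_zero hg1 hgn)
    · refine ⟨Function.update (fun _ => 1) i0 (δ * (g.eval 1 * g.eval (-1))), fun i => ?_, ?_⟩
      · rw [Function.update_apply]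
        split_ifs
        · exact mul_ne_zero hδ (mul_ne_zero hg1 hgn)
        · exact one_ne_zero
      · rw [Finset.prod_update_of_mem (Finset.mem_univ i0), Finset.prod_const_one, mul_one, ← mul_assoc]
        exact IsSquare.mul_self _
  obtain ⟨M, A, hMt, hM0, hMdet, hA, hAc⟩ := exists_model h2 hg hg1 hgn d hd
  have hAunit : IsUnit A := by
    rw [Matrix.isUnit_iff_isUnit_det]
    refine Ne.isUnit fun h => hM0 ?_
    rw [← hA, det_mul, h, mul_zero]
  have hC0 : ∀ v, (∀ w, Matrix.toBilin' M v w = 0) → v = 0 := fun v hv => by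
    refine Matrix.eq_zero_of_vecMul_eq_zero hM0 (dotProduct_eq_zero _ fun w => ?_)
    rw [← dotProduct_mulVec, ← Matrix.toBilin'_apply']
    exact hv w
  have hCs : ∀ x y, Matrix.toBilin' M x y = Matrix.toBilin' M y x := fun x y => by
    rw [Matrix.toBilin'_apply', Matrix.toBilin'_apply', dotProduct_mulVec, ← mulVec_transpose, hMt, dotProduct_comm]
  have hfin : finrank K (((Fin k ⊕ Fin k) ⊕ (Fin (2 * a) ⊕ Fin (2 * b))) → K) = 2 * n := by
    simp only [Module.finrank_fintype_fun_eq_card, Fintype.card_sum, Fintype.card_fin]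
    omega
  obtain ⟨φ, hφ⟩ := exists_congr h2 (N := 2 * n - 1) B hs hnd (Matrix.toBilin' M) hCs hC0 (by omega) (by omega) bV
    (Pi.basisFun K _) (by
      have e : LinearMap.toMatrix₂ (Pi.basisFun K ((Fin k ⊕ Fin k) ⊕ (Fin (2 * a) ⊕ Fin (2 * b)))) (Pi.basisFun K _)
          (Matrix.toBilin' M) = M := by
        ext i j
        rw [LinearMap.toMatrix₂_apply, Pi.basisFun_apply, Pi.basisFun_apply, Matrix.toBilin'_single]
      rw [e, hMdet]
      exact hdsq)
  let eA := LinearEquiv.ofBijective (Matrix.toLin' A)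
    ⟨Matrix.mulVec_injective_iff_isUnit.mpr hAunit, Matrix.mulVec_surjective_iff_isUnit.mpr hAunit⟩
  refine ⟨(φ.symm.trans eA).trans φ, fun x y => ?_, ?_⟩
  · have hinv : ∀ u v, Matrix.toBilin' M (Matrix.toLin' A u) (Matrix.toLin' A v) = Matrix.toBilin' M u v :=
      fun u v => LinearMap.congr_fun₂ ((Matrix.toBilin'_comp M A A).trans (by rw [hA])) u v
    show B (φ (Matrix.toLin' A (φ.symm x))) (φ (Matrix.toLin' A (φ.symm y))) = B x y
    rw [hφ, hinv, ← hφ, φ.apply_symm_apply, φ.apply_symm_apply]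
  · rw [show (((φ.symm.trans eA).trans φ : V ≃ₗ[K] V) : V →ₗ[K] V) = φ.conj (Matrix.toLin' A) from rfl,
      LinearEquiv.charpoly_conj, Matrix.charpoly_toLin', hAc, hfg]

/-- Half of the palindromic polynomials have a given type. -/
theorem card_pal_type (h2 : (2 : K) ≠ 0) (hn : 2 ≤ n) {δ : K} (hδ : δ ≠ 0) :
    Fintype.card K ^ n ≤ 2 * Nat.card {f : K[X] // IsPal n f ∧
      (f.eval 1 * f.eval (-1) = 0 ∨ IsSquare (δ * (f.eval 1 * f.eval (-1))))} := by
  obtain ⟨α, hα⟩ := FiniteField.exists_nonsquare (F := K) (fun h => by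
    have := ringChar.Nat.cast_ringChar (R := K)
    rw [h] at this
    exact h2 (by exact_mod_cast this))
  have hα0 : α ≠ 0 := fun h => hα (h ▸ IsSquare.zero)
  let P : K[X] → Prop := fun f => f.eval 1 * f.eval (-1) = 0 ∨ IsSquare (δ * (f.eval 1 * f.eval (-1)))
  have hfin : Finite {f : K[X] // IsPal n f} := Nat.finite_of_card_ne_zero (by
    rw [card_pal rfl]; exact pow_ne_zero _ Fintype.card_ne_zero)
  let w : K[X] → K := fun f => (α - 1) * f.eval (-1) / (4 * (-1) ^ (n - 1))
  let sh : K[X] → K[X] := fun f =>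
    f + (C (w f) * X ^ (n + 1) + C (-2 * w f) * X ^ n + C (w f) * X ^ (n - 1))
  have h4 : (4 : K) * (-1) ^ (n - 1) ≠ 0 := mul_ne_zero
    (by rw [show (4 : K) = 2 * 2 by norm_num]; exact mul_ne_zero h2 h2) (pow_ne_zero _ (neg_ne_zero.mpr one_ne_zero))
  have he1 : ∀ f, (sh f).eval 1 = f.eval 1 := fun f => by simp [sh]; ring
  have hem : ∀ f, (sh f).eval (-1) = α * f.eval (-1) := fun f => by
    have e : (sh f).eval (-1) = f.eval (-1) + w f * (4 * (-1) ^ (n - 1)) := by
      obtain ⟨j, rfl⟩ : ∃ j, n = j + 1 := ⟨n - 1, by omega⟩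
      simp [sh, pow_succ]; ring
    rw [e, show w f = (α - 1) * f.eval (-1) / (4 * (-1) ^ (n - 1)) from rfl, div_mul_cancel₀ _ h4]
    ring
  have hpal : ∀ f, IsPal n f → IsPal n (sh f) := fun f hf => by
    have hco : ∀ i, (sh f).coeff i = f.coeff i +
        ((if i = n + 1 then w f else 0) + (if i = n then -2 * w f else 0) + (if i = n - 1 then w f else 0)) := fun i => by
      simp only [sh, coeff_add, coeff_C_mul_X_pow]
    have htop : (sh f).coeff (2 * n) = 1 := by
      rw [hco, if_neg (by omega), if_neg (by omega), if_neg (by omega), add_zero, add_zero, add_zero, ← hf.2.1]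
      exact hf.1
    have hdeg : (sh f).natDegree = 2 * n := by
      refine le_antisymm (natDegree_le_iff_coeff_eq_zero.mpr fun i hi => ?_)
        (le_natDegree_of_ne_zero (by rw [htop]; exact one_ne_zero))
      rw [hco, if_neg (by omega), if_neg (by omega), if_neg (by omega), add_zero, add_zero, add_zero]
      exact coeff_eq_zero_of_natDegree_lt (by rw [hf.2.1]; omega)
    refine ⟨by rw [Monic, leadingCoeff, hdeg, htop], hdeg, ?_, ?_⟩
    · rw [hco, if_neg (by omega), if_neg (by omega), if_neg (by omega), add_zero, add_zero, add_zero, hf.2.2.1]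
    · ext i
      rw [coeff_reverse, hdeg]
      rcases Nat.lt_or_ge (2 * n) i with h | h
      · rw [revAt_eq_self_of_lt h]
      · rw [revAt_le h, hco, hco, hf.coeff_sym h]
        split_ifs <;> first | omega | ring
  let φ : {f : {f : K[X] // IsPal n f} // ¬ P f.1} → {f : K[X] // IsPal n f ∧ P f} := fun f =>
    ⟨sh f.1.1, hpal _ f.1.2, by
      have h := f.2
      simp only [P, not_or] at h ⊢
      refine Or.inr ?_
      rw [he1, hem]
      have := nonsquare_mul hα h.2
      rwa [show δ * (f.1.1.eval 1 * (α * f.1.1.eval (-1))) = α * (δ * (f.1.1.eval 1 * f.1.1.eval (-1))) by ring]⟩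
  have hφ : Function.Injective φ := fun f f' h => by
    have h' : sh f.1.1 = sh f'.1.1 := congrArg Subtype.val h
    have he : f.1.1.eval (-1) = f'.1.1.eval (-1) := mul_left_cancel₀ hα0 (by rw [← hem, ← hem, h'])
    have hw : w f.1.1 = w f'.1.1 := by simp only [w, he]
    refine Subtype.ext (Subtype.ext ?_)
    simp only [sh, hw] at h'
    exact add_right_cancel h'
  have hsplit := Nat.card_congr (Equiv.sumCompl fun f : {f : K[X] // IsPal n f} => P f.1)
  rw [Nat.card_sum, card_pal rfl] at hsplit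
  have hfin' : Finite {f : K[X] // IsPal n f ∧ P f} := Finite.of_injective
    (fun f : {f : K[X] // IsPal n f ∧ P f} => (⟨f.1, f.2.1⟩ : {f : K[X] // IsPal n f}))
    fun a b h => by simpa [Subtype.ext_iff] using h
  have h1 := Nat.card_le_card_of_injective φ hφ
  have h2' : Nat.card {f : {f : K[X] // IsPal n f} // P f.1} = Nat.card {f : K[X] // IsPal n f ∧ P f} :=
    Nat.card_congr (Equiv.subtypeSubtypeEquivSubtypeInter (IsPal n) P)
  show Fintype.card K ^ n ≤ 2 * Nat.card {f : K[X] // IsPal n f ∧ P f}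
  omega

end CfsgLib.Classical.OrthClassBound
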