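import Cfsg.Agent.Lib.Classical.SpClassBound.Main

/-!
The codes of the summand types of an orthogonal space of even dimension.
-/

set_option autoImplicit false
set_option linter.style.haveILetI false
set_option linter.unusedSectionVars false

namespace CfsgLib.Classical.OrthClassBound

open Polynomial CfsgLib.Classical.SpClassBound

open scoped _root_.Classical

variable {K : Type*} [Field K]

/-- The encoding is injective on normalised lists. -/
theorem code_injective (h2 : (2 : K) ≠ 0) {η : K} {l l' : List (Key K)} (hl : ∀ k ∈ l, k.Valid η)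
    (hl' : ∀ k ∈ l', k.Valid η) (hn : Norm l) (hn' : Norm l')
    (hP : ∀ e, 1 ≤ e → codePoly l e = codePoly l' e)
    (hb : ∀ e, 1 ≤ e → η * (-1) ^ e = -1 → ∀ b, bit l 1 e b = bit l' 1 e b ∧ bit l (-1) e b = bit l' (-1) e b) :
    l.Perm l' := by
  have hhalf : ∀ e, 1 ≤ e → halfMult l 1 e = halfMult l' 1 e ∧ halfMult l (-1) e = halfMult l' (-1) e := fun e he => by
    have h := rootMult_codePoly h2 hl e
    have h' := rootMult_codePoly h2 hl' e
    rw [hP e he] at h
    omega
  have hG : ∀ e, 1 ≤ e → genProd l e = genProd l' e := fun e he => by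
    have h := hP e he
    simp only [codePoly, (hhalf e he).1, (hhalf e he).2] at h
    exact mul_right_cancel₀ (pow_ne_zero _ (X_sub_C_ne_zero _)) (mul_right_cancel₀ (pow_ne_zero _ (X_sub_C_ne_zero _)) h)
  have hexcl : ∀ e : ℕ, η * (-1) ^ e = -1 → η * (-1) ^ e = 1 → False := fun e h h' =>
    h2 (by linear_combination h - h')
  refine List.perm_iff_count.mpr fun k => ?_
  by_cases hk : k.Valid η
  swap
  · rw [List.count_eq_zero_of_not_mem fun h => hk (hl k h), List.count_eq_zero_of_not_mem fun h => hk (hl' k h)]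
  match k, hk with
  | .gen p e, ⟨⟨P, hm, hi, h0, _, _, hp⟩, he⟩ =>
    subst hp
    rw [count_genProd hl hm hi h0, count_genProd hl' hm hi h0, hG e he]
  | .sgn c e s, ⟨hc, he, hp⟩ =>
    have hpr : ∀ (m : List (Key K)), (∀ k ∈ m, k.Valid η) → m.count (.pr c e) = 0 := fun m hm =>
      List.count_eq_zero_of_not_mem fun h => hexcl e hp (hm _ h).2.2
    obtain ⟨hh, hb1, hb2⟩ : halfMult l c e = halfMult l' c e ∧ bit l c e true = bit l' c e true ∧
        bit l c e false = bit l' c e false := by
      rcases mul_self_eq_one_iff.mp hc with rfl | rfl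
      · exact ⟨(hhalf e he).1, (hb e he hp true).1, (hb e he hp false).1⟩
      · exact ⟨(hhalf e he).2, (hb e he hp true).2, (hb e he hp false).2⟩
    have h1 := count_le_one hn c e
    have h1' := count_le_one hn' c e
    have hm1 : Key.sgn c e false ∈ l ↔ l.count (Key.sgn c e false) = 1 := by
      rw [← List.one_le_count_iff]; omega
    have hm1' : Key.sgn c e false ∈ l' ↔ l'.count (Key.sgn c e false) = 1 := by
      rw [← List.one_le_count_iff]; omega
    simp only [halfMult, hpr l hl, hpr l' hl', zero_add, hm1, hm1'] at hh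
    simp only [bit, if_true, Bool.false_eq_true, if_false, hm1, hm1'] at hb1 hb2
    cases s <;>
      split_ifs at hh hb1 hb2 <;>
      simp only [decide_eq_decide] at hb1 hb2 <;> omega
  | .pr c e, ⟨hc, he, hp⟩ =>
    have hs : ∀ (m : List (Key K)) b, (∀ k ∈ m, k.Valid η) → m.count (.sgn c e b) = 0 := fun m b hm =>
      List.count_eq_zero_of_not_mem fun h => hexcl e (hm _ h).2.2 hp
    obtain hh : halfMult l c e = halfMult l' c e := by
      rcases mul_self_eq_one_iff.mp hc with rfl | rfl
      · exact (hhalf e he).1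
      · exact (hhalf e he).2
    simp only [halfMult, hs l _ hl, hs l' _ hl'] at hh
    simpa using hh

/-- The codes. -/
abbrev Raw (K : Type*) [Field K] (m : ℕ) : Type _ :=
  (Fin (2 * m + 1 + 1) → K[X]) × (Fin (m + 1) × Fin 2 → Bool × Bool)

/-- The root attached to a position. -/
def rootAt {m : ℕ} (p : Fin (m + 1) × Fin 2) : K := if p.2 = 0 then 1 else -1

/-- The size attached to a position. -/
def sizeAt {m : ℕ} (p : Fin (m + 1) × Fin 2) : ℕ := 2 * p.1.1 + 1

/-- The number of set bits. -/
def nb (b : Bool × Bool) : ℕ := b.1.toNat + b.2.toNat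

/-- The code of a list. -/
noncomputable def code (m : ℕ) (l : List (Key K)) : Raw K m :=
  (fun e => codePoly l (e.1 + 1), fun p => (bit l (rootAt p) (sizeAt p) true, bit l (rootAt p) (sizeAt p) false))

theorem sum_Icc_odd {f : ℕ → ℕ} (hf : ∀ e, Even e → f e = 0) :
    ∀ M : ℕ, ∑ e ∈ Finset.Icc 1 (2 * M), f e = ∑ i : Fin M, f (2 * i.1 + 1)
  | 0 => by simp
  | M + 1 => by
    rw [Fin.sum_univ_castSucc, show 2 * (M + 1) = 2 * M + 1 + 1 by ring, Finset.sum_Icc_succ_top (by omega),
      Finset.sum_Icc_succ_top (by omega), sum_Icc_odd hf M, hf (2 * M + 1 + 1) ⟨M + 1, by ring⟩, add_zero]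
    simp

/-- The bits vanish at even sizes. -/
theorem bit_even (h2 : (2 : K) ≠ 0) {l : List (Key K)} (hl : ∀ k ∈ l, k.Valid (1 : K)) {e : ℕ} (he : Even e)
    (c : K) (b : Bool) : bit l c e b = false := by
  have hs : ∀ d s, l.count (Key.sgn d e s) = 0 := fun d s => List.count_eq_zero_of_not_mem fun h => by
    have h' := (hl _ h).2.2
    rw [he.neg_one_pow, mul_one] at h'
    exact h2 (by linear_combination h')
  simp [bit, hs, ← List.count_pos_iff]

theorem code_mem (h2 : (2 : K) ≠ 0) (m : ℕ) {l : List (Key K)} (hl : ∀ k ∈ l, k.Valid (1 : K)) (hn : Norm l)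
    (hdim : (l.map Key.dim).sum = 2 * (m + 1)) :
    (∀ e, ∃ D, SympClassCount.IsPal D ((code m l).1 e)) ∧
      ∑ e, (e.1 + 1) * ((code m l).1 e).natDegree + ∑ p, sizeAt p * nb ((code m l).2 p) = 2 * (m + 1) := by
  refine ⟨fun e => codePoly_pal h2 hl _, ?_⟩
  have h := code_degree h2 hl hn (2 * (m + 1)) hdim.le
  rw [hdim] at h
  simp only [mul_add, Finset.sum_add_distrib] at h
  have hb : ∑ e ∈ Finset.Icc 1 (2 * (m + 1)), e * bitWeight l e =
      ∑ i : Fin (m + 1), (2 * i.1 + 1) * bitWeight l (2 * i.1 + 1) :=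
    sum_Icc_odd (f := fun e => e * bitWeight l e) (fun e he => by simp [bitWeight, bit_even h2 hl he]) (m + 1)
  have hP : ∑ e : Fin (2 * m + 1 + 1), (e.1 + 1) * ((code m l).1 e).natDegree =
      ∑ e ∈ Finset.Icc 1 (2 * (m + 1)), e * (codePoly l e).natDegree := by
    rw [show 2 * (m + 1) = 2 * m + 1 + 1 by ring, ← sum_Icc_eq]
    rfl
  have hB : ∑ p, sizeAt p * nb ((code m l).2 p) =
      ∑ i : Fin (m + 1), (2 * i.1 + 1) * bitWeight l (2 * i.1 + 1) := by
    rw [Fintype.sum_prod_type]
    refine Finset.sum_congr rfl fun i _ => ?_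
    simp [nb, code, Fin.sum_univ_two, bitWeight, rootAt, sizeAt, mul_add]
  rw [hP, hB, ← hb]
  exact h

theorem code_inj (h2 : (2 : K) ≠ 0) (m : ℕ) {l l' : List (Key K)} (hl : ∀ k ∈ l, k.Valid (1 : K))
    (hl' : ∀ k ∈ l', k.Valid (1 : K)) (hn : Norm l) (hn' : Norm l') (hdim : (l.map Key.dim).sum = 2 * (m + 1))
    (hdim' : (l'.map Key.dim).sum = 2 * (m + 1)) (h : code m l = code m l') : l.Perm l' := by
  refine code_injective h2 hl hl' hn hn' (fun e he => ?_) fun e he hpar b => ?_
  · by_cases hle : e ≤ 2 * (m + 1)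
    · have := congrFun (congrArg Prod.fst h) ⟨e - 1, by omega⟩
      simpa [code, show e - 1 + 1 = e by omega] using this
    · rw [(code_trivial hl (e := e) (by omega)).1, (code_trivial hl' (e := e) (by omega)).1]
  · by_cases hle : e ≤ 2 * (m + 1)
    · obtain ⟨r, hr⟩ : Odd e := by
        rcases Nat.even_or_odd e with hev | hod
        · rw [hev.neg_one_pow, mul_one] at hpar
          exact absurd (show (2 : K) = 0 by linear_combination hpar) h2
        · exact hod
      have h0 := congrFun (congrArg Prod.snd h) (⟨r, by omega⟩, (0 : Fin 2))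
      have h1 := congrFun (congrArg Prod.snd h) (⟨r, by omega⟩, (1 : Fin 2))
      simp only [code, sizeAt, rootAt, ← hr, Prod.mk.injEq, if_true, Fin.one_eq_zero_iff, OfNat.ofNat_ne_one,
        if_false] at h0 h1
      cases b
      · exact ⟨h0.2, h1.2⟩
      · exact ⟨h0.1, h1.1⟩
    · simp [(code_trivial hl (e := e) (by omega)).2, (code_trivial hl' (e := e) (by omega)).2]

/-- Changing the sign of one summand does not change the other data. -/
theorem flip_other {c : K} {e : ℕ} (r : List (Key K)) (s s' : Bool) {d : K} {f : ℕ} (hne : ¬ (d = c ∧ f = e)) :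
    halfMult (Key.sgn c e s :: r) d f = halfMult (Key.sgn c e s' :: r) d f ∧
      ∀ b, bit (Key.sgn c e s :: r) d f b = bit (Key.sgn c e s' :: r) d f b := by
  have hk : ∀ t t' : Bool, Key.sgn c e t ≠ Key.sgn d f t' := fun t t' h => by
    injection h with h1 h2 h3
    exact hne ⟨h1.symm, h2.symm⟩
  simp [halfMult, bit, List.count_cons, List.mem_cons, hk, (hk _ _).symm]

/-- The data at a negative and at a positive sign. -/
theorem flip_here {c : K} {e : ℕ} {r : List (Key K)} (hr : Key.sgn c e false ∉ r) :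
    bit (Key.sgn c e false :: r) c e true = true ∧
      bit (Key.sgn c e false :: r) c e false = decide ((r.count (Key.sgn c e true) + 1) % 2 = 0) ∧
      bit (Key.sgn c e true :: r) c e true = false ∧
      bit (Key.sgn c e true :: r) c e false = !decide ((r.count (Key.sgn c e true) + 1) % 2 = 0) ∧
      halfMult (Key.sgn c e true :: r) c e = halfMult (Key.sgn c e false :: r) c e +
        (decide ((r.count (Key.sgn c e true) + 1) % 2 = 0)).toNat := by
  have h0 : r.count (Key.sgn c e false) = 0 := List.count_eq_zero_of_not_mem hr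
  by_cases hpar : (r.count (Key.sgn c e true) + 1) % 2 = 0
  · simp [bit, halfMult, h0, hr, hpar, List.count_cons]
    omega
  · simp [bit, halfMult, h0, hr, hpar, List.count_cons]

/-- Flip a position. -/
def flipAt {m : ℕ} (p : Fin (m + 1) × Fin 2) (c : Raw K m) : Raw K m :=
  (c.1, Function.update c.2 p ((c.2 p).2, (c.2 p).1))

/-- Remove a pair of bits of size one. -/
noncomputable def push {m : ℕ} (c : Raw K m) : Raw K m :=
  (Function.update c.1 0 (c.1 0 * (X - C 1) ^ 2), Function.update c.2 (0, 0) (false, false))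

theorem pos_eq (h2 : (2 : K) ≠ 0) {m : ℕ} {p q : Fin (m + 1) × Fin 2} (hr : (rootAt q : K) = rootAt p)
    (hs : sizeAt q = sizeAt p) : q = p := by
  have hne : ((1 : K) ≠ -1) := fun h => h2 (by linear_combination h)
  refine Prod.ext (Fin.ext ?_) ?_
  · simp only [sizeAt] at hs; omega
  · by_cases hp : p.2 = 0
    · by_cases hq : q.2 = 0
      · rw [hp, hq]
      · simp only [rootAt, hp, hq, if_true, if_false] at hr
        exact absurd hr.symm hne
    · by_cases hq : q.2 = 0
      · simp only [rootAt, hp, hq, if_true, if_false] at hr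
        exact absurd hr hne
      · rw [Fin.eq_one_of_ne_zero _ hp, Fin.eq_one_of_ne_zero _ hq]

theorem genProd_sgn (c : K) (e : ℕ) (s : Bool) (r : List (Key K)) (f : ℕ) :
    genProd (Key.sgn c e s :: r) f = genProd r f := by
  rw [genProd_cons]; simp [Key.genPart]

theorem code_sgn_flip (h2 : (2 : K) ≠ 0) (m : ℕ) (p : Fin (m + 1) × Fin 2) {r : List (Key K)}
    (hr : Key.sgn (rootAt p) (sizeAt p) false ∉ r)
    (hodd : ¬ (r.count (Key.sgn (rootAt p) (sizeAt p) true) + 1) % 2 = 0) (s : Bool) :
    code m (Key.sgn (rootAt p) (sizeAt p) (!s) :: r) = flipAt p (code m (Key.sgn (rootAt p) (sizeAt p) s :: r)) := by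
  obtain ⟨f1, f2, f3, f4, f5⟩ := flip_here hr
  rw [decide_eq_false hodd] at f2 f4 f5
  simp only [Bool.toNat_false, add_zero, Bool.not_false] at f4 f5
  have hh : ∀ (d : K) f t t', halfMult (Key.sgn (rootAt p) (sizeAt p) t :: r) d f =
      halfMult (Key.sgn (rootAt p) (sizeAt p) t' :: r) d f := fun d f t t' => by
    by_cases hne : d = rootAt p ∧ f = sizeAt p
    · obtain ⟨rfl, rfl⟩ := hne
      cases t <;> cases t' <;> first | rfl | exact f5 | exact f5.symm
    · exact (flip_other r t t' hne).1
  refine Prod.ext (funext fun i => ?_) (funext fun q => ?_)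
  · simp only [code, flipAt, codePoly, genProd_sgn, hh _ _ (!s) s]
  · by_cases hq : q = p
    · subst hq
      cases s <;> simp [code, flipAt, f1, f2, f3, f4]
    · have hne : ¬ ((rootAt q : K) = rootAt p ∧ sizeAt q = sizeAt p) := fun h => hq (pos_eq h2 h.1 h.2)
      simp [code, flipAt, hq, (flip_other r (!s) s hne).2]

theorem code_sgn_push (h2 : (2 : K) ≠ 0) (m : ℕ) {r : List (Key K)} (hr : Key.sgn (1 : K) 1 false ∉ r)
    (hev : (r.count (Key.sgn (1 : K) 1 true) + 1) % 2 = 0) :
    code m (Key.sgn (1 : K) 1 true :: r) = push (code m (Key.sgn (1 : K) 1 false :: r)) := by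
  obtain ⟨f1, f2, f3, f4, f5⟩ := flip_here hr
  rw [decide_eq_true hev] at f2 f4 f5
  simp only [Bool.toNat_true, Bool.not_true] at f4 f5
  have hn1 : ¬ ((-1 : K) = 1) := fun h => h2 (by linear_combination -h)
  refine Prod.ext (funext fun i => ?_) (funext fun q => ?_)
  · by_cases hi : i = 0
    · subst hi
      simp only [code, push, Function.update_self, codePoly, genProd_sgn, Fin.val_zero, zero_add, f5,
        (flip_other r true false (c := (1 : K)) (e := 1) (d := -1) (f := 1) fun h => hn1 h.1).1]
      ring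
    · have hi' : ¬ (i.1 + 1 = 1) := fun h => hi (Fin.ext (by simpa using h))
      simp only [code, push, Function.update_of_ne hi, codePoly, genProd_sgn,
        (flip_other r true false (c := (1 : K)) (e := 1) (d := 1) (f := i.1 + 1) fun h => hi' h.2).1,
        (flip_other r true false (c := (1 : K)) (e := 1) (d := -1) (f := i.1 + 1) fun h => hi' h.2).1]
  · by_cases hq : q = (0, 0)
    · subst hq
      simp [code, push, rootAt, sizeAt, f3, f4]
    · have hne : ¬ ((rootAt q : K) = 1 ∧ sizeAt q = 1) := fun h => hq (pos_eq h2 (p := (0, 0))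
        (by simpa [rootAt] using h.1) (by simpa [sizeAt] using h.2))
      simp [code, push, hq, (flip_other r true false hne).2]

theorem norm_cons_of {r : List (Key K)} (hr : Norm r) {c : K} {e : ℕ} {s : Bool}
    (h : s = true ∨ Key.sgn c e false ∉ r) : Norm (Key.sgn c e s :: r) := by
  refine List.pairwise_cons.mpr ⟨fun b hb ⟨c', e', h1, h2⟩ => ?_, hr⟩
  injection h1 with hc he hs
  subst hc he hs h2
  exact h.elim (by simp) fun h' => h' hb

/-- A position with unequal bits yields a list with one sign changed. -/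
theorem exists_flip (h2 : (2 : K) ≠ 0) (m : ℕ) (p : Fin (m + 1) × Fin 2) {l : List (Key K)} (hn : Norm l)
    (hne : ((code m l).2 p).1 ≠ ((code m l).2 p).2) :
    ∃ s r, l.Perm (Key.sgn (rootAt p) (sizeAt p) s :: r) ∧ Norm (Key.sgn (rootAt p : K) (sizeAt p) (!s) :: r) ∧
      code m (Key.sgn (rootAt p) (sizeAt p) (!s) :: r) = flipAt p (code m (Key.sgn (rootAt p) (sizeAt p) s :: r)) := by
  set c : K := rootAt p
  set e := sizeAt p
  have h1 := count_le_one hn c e
  have hb : (l.count (Key.sgn c e true) + l.count (Key.sgn c e false)) % 2 ≠ 0 := fun h => hne (by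
    simp only [code, bit, c, e] at h ⊢
    simp [h])
  by_cases hF : Key.sgn c e false ∈ l
  · have hp := List.perm_cons_erase hF
    set r := l.erase (Key.sgn c e false)
    have hc := hp.count_eq (Key.sgn c e false)
    have hT := hp.count_eq (Key.sgn c e true)
    simp [List.count_cons] at hc hT
    have hr : Key.sgn c e false ∉ r := List.count_eq_zero.mp (by omega)
    have hodd : ¬ (r.count (Key.sgn c e true) + 1) % 2 = 0 := by omega
    exact ⟨false, r, hp, norm_cons_of (List.pairwise_cons.mp (hn.perm hp)).2 (Or.inl rfl), code_sgn_flip h2 m p hr hodd false⟩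
  · have h0 : l.count (Key.sgn c e false) = 0 := List.count_eq_zero_of_not_mem hF
    have hT' : Key.sgn c e true ∈ l := List.count_pos_iff.mp (by omega)
    have hp := List.perm_cons_erase hT'
    set r := l.erase (Key.sgn c e true)
    have hc := hp.count_eq (Key.sgn c e false)
    have hT := hp.count_eq (Key.sgn c e true)
    simp [List.count_cons] at hc hT
    have hr : Key.sgn c e false ∉ r := List.count_eq_zero.mp (by omega)
    have hodd : ¬ (r.count (Key.sgn c e true) + 1) % 2 = 0 := by omega
    exact ⟨true, r, hp, norm_cons_of (List.pairwise_cons.mp (hn.perm hp)).2 (Or.inr hr), code_sgn_flip h2 m p hr hodd true⟩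

/-- A full first pair of bits yields a list with one sign changed. -/
theorem exists_push (h2 : (2 : K) ≠ 0) (m : ℕ) {l : List (Key K)} (hn : Norm l)
    (hfull : (code m l).2 (0, 0) = (true, true)) :
    ∃ r, l.Perm (Key.sgn (1 : K) 1 false :: r) ∧ Norm (Key.sgn (1 : K) 1 true :: r) ∧
      code m (Key.sgn (1 : K) 1 true :: r) = push (code m (Key.sgn (1 : K) 1 false :: r)) := by
  have h1 := count_le_one hn (1 : K) 1
  simp only [code, bit, rootAt, sizeAt, if_true, Fin.val_zero, mul_zero, zero_add, Prod.mk.injEq,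
    Bool.false_eq_true, if_false] at hfull
  obtain ⟨hF, hb⟩ : Key.sgn (1 : K) 1 false ∈ l ∧
      (l.count (Key.sgn (1 : K) 1 true) + l.count (Key.sgn (1 : K) 1 false)) % 2 = 0 := by
    split_ifs at hfull with h
    · exact ⟨of_decide_eq_true hfull.1, h⟩
    · exact absurd (of_decide_eq_true hfull.1) (of_decide_eq_true hfull.2)
  have hp := List.perm_cons_erase hF
  set r := l.erase (Key.sgn (1 : K) 1 false)
  have hc := hp.count_eq (Key.sgn (1 : K) 1 false)
  have hT := hp.count_eq (Key.sgn (1 : K) 1 true)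
  simp [List.count_cons] at hc hT
  have hr : Key.sgn (1 : K) 1 false ∉ r := List.count_eq_zero.mp (by omega)
  exact ⟨r, hp, norm_cons_of (List.pairwise_cons.mp (hn.perm hp)).2 (Or.inl rfl), code_sgn_push h2 m hr (by omega)⟩

end CfsgLib.Classical.OrthClassBound
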