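import Cfsg.Agent.Lib.Classical.OrthClassBound.Code

/-!
Counting the codes.
-/

set_option autoImplicit false
set_option linter.style.haveILetI false
set_option linter.unusedSectionVars false

namespace CfsgLib.Classical.OrthClassBound

open Polynomial Finset

open scoped _root_.Classical

variable {K : Type*} [Field K] [Fintype K] {m : ℕ}

/-- The total size of the bits. -/
def wsum (b : Fin (m + 1) × Fin 2 → Bool × Bool) : ℕ := ∑ p, sizeAt p * nb (b p)

/-- The codes of total weight `2n`. -/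
def IsCode (c : Raw K m) : Prop :=
  (∀ e, ∃ D, SympClassCount.IsPal D (c.1 e)) ∧
    ∑ e, (e.1 + 1) * (c.1 e).natDegree + wsum c.2 = 2 * (m + 1)

/-- The size series. -/
def minusProd : ℚ := (∏ i ∈ range 6, (1 / (1 - (1 / 3 : ℚ) ^ (i + 1)))) * (1 / (1 - 3 / 2 * (1 / 3) ^ 7))

/-- The rational upper bound for `1 / √3`. -/
def rr : ℚ := 97 / 168

theorem finite_pal (d : ℕ) : Finite {f : K[X] // SympClassCount.IsPal d f} := by
  refine Nat.finite_of_card_ne_zero ?_
  rw [SympClassCount.card_pal rfl]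
  exact pow_ne_zero _ Fintype.card_ne_zero

theorem card_codes_set (hq3 : 3 ≤ Fintype.card K) (m : ℕ) (Bset : Finset (Fin (m + 1) × Fin 2 → Bool × Bool)) :
    Finite {c : Raw K m // IsCode c ∧ c.2 ∈ Bset} ∧
      (Nat.card {c : Raw K m // IsCode c ∧ c.2 ∈ Bset} : ℚ) ≤ (Fintype.card K : ℚ) ^ (m + 1) *
        (minusProd * ∑ b ∈ Bset.filter (fun b => Even (wsum b)), rr ^ wsum b) := by
  set q := Fintype.card K with hq
  let Bs := Bset.filter (fun b => Even (wsum b))
  let S := (Fin (2 * m + 1) → Fin (m + 2)) × {b // b ∈ Bs}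
  let rest : S → ℕ := fun sh => ∑ e, (e.1 + 2) * (sh.1 e).1 + wsum sh.2.1 / 2
  let Dfull : S → Fin (2 * m + 1 + 1) → ℕ :=
    fun sh => Fin.cons (m + 1 - rest sh) fun e => (sh.1 e).1
  let T := (sh : {sh : S // rest sh ≤ m + 1}) × (∀ e, {f : K[X] // SympClassCount.IsPal (Dfull sh.1 e) f})
  have hpal : ∀ d, Finite {f : K[X] // SympClassCount.IsPal d f} := finite_pal
  have hT : Finite T := inferInstance
  choose D hD using fun (c : {c : Raw K m // IsCode c ∧ c.2 ∈ Bset}) => c.2.1.1
  have hw : ∀ c, 2 * ∑ e, (e.1 + 1) * D c e + wsum c.1.2 = 2 * (m + 1) := fun c => by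
    have h := c.2.1.2
    rw [sum_congr rfl (g := fun e : Fin _ => 2 * ((e.1 + 1) * D c e)) fun e _ => by rw [(hD c e).2.1]; ring,
      ← mul_sum] at h
    exact h
  have hDlt : ∀ c e, D c e < m + 2 := fun c e => by
    have h := single_le_sum (f := fun e : Fin (2 * m + 1 + 1) => (e.1 + 1) * D c e) (fun _ _ => Nat.zero_le _)
      (mem_univ e)
    have h' : D c e ≤ (e.1 + 1) * D c e := Nat.le_mul_of_pos_left _ (Nat.succ_pos _)
    have := hw c
    omega
  have hev : ∀ c : {c : Raw K m // IsCode c ∧ c.2 ∈ Bset}, c.1.2 ∈ Bs := fun c => mem_filter.mpr ⟨c.2.2,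
    ⟨m + 1 - ∑ e, (e.1 + 1) * D c e, by have := hw c; omega⟩⟩
  let sh : {c : Raw K m // IsCode c ∧ c.2 ∈ Bset} → S := fun c =>
    (fun e => ⟨D c e.succ, hDlt c _⟩, ⟨c.1.2, hev c⟩)
  have hrest : ∀ c, D c 0 + rest (sh c) = m + 1 := fun c => by
    have h := hw c
    rw [Fin.sum_univ_succ] at h
    simp only [Fin.val_zero, zero_add, one_mul, Fin.val_succ, add_assoc, Nat.reduceAdd] at h
    simp only [rest, sh]
    omega
  have hfull : ∀ c, Dfull (sh c) = D c := fun c => by
    funext e
    refine Fin.cases ?_ (fun i => ?_) e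
    · simp only [Dfull, Fin.cons_zero]
      have := hrest c
      omega
    · simp only [Dfull, Fin.cons_succ, sh]
  let f : {c : Raw K m // IsCode c ∧ c.2 ∈ Bset} → T := fun c =>
    ⟨⟨sh c, by have := hrest c; omega⟩, fun e => ⟨c.1.1 e, by rw [hfull]; exact hD c e⟩⟩
  have hf : Function.Injective f := fun c c' e => by
    refine Subtype.ext (Prod.ext (funext fun i => congrArg (fun z : T => (z.2 i).1) e) ?_)
    exact congrArg (fun z : T => z.1.1.2.1) e
  refine ⟨Finite.of_injective f hf, ?_⟩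
  have hcard := Nat.card_le_card_of_injective f hf
  have hTcard : Nat.card T = ∑ s : {sh : S // rest sh ≤ m + 1}, ∏ e, q ^ Dfull s.1 e := by
    rw [Nat.card_sigma]
    refine sum_congr rfl fun s _ => ?_
    rw [Nat.card_pi]
    exact prod_congr rfl fun e _ => SympClassCount.card_pal rfl
  set x : ℚ := 1 / 3 with hxdef
  let wgt : S → ℚ := fun sh => (∏ e, x ^ ((e.1 + 1) * (sh.1 e).1)) * rr ^ wsum sh.2.1
  have hterm : ∀ s : {sh : S // rest sh ≤ m + 1}, ((∏ e, q ^ Dfull s.1 e : ℕ) : ℚ) ≤ (q : ℚ) ^ (m + 1) * wgt s.1 := by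
    rintro ⟨s, hs⟩
    rw [prod_pow_eq_pow_sum, Fin.sum_univ_succ]
    simp only [Dfull, Fin.cons_zero, Fin.cons_succ, wgt, prod_pow_eq_pow_sum]
    set Z := ∑ e : Fin (2 * m + 1), (e.1 + 1) * (s.1 e).1 with hZ
    set h := wsum s.2.1 / 2 with hh
    have hT2 : wsum s.2.1 = 2 * h := by
      obtain ⟨k, hk⟩ := (mem_filter.mp s.2.2).2
      omega
    have hr : rest s = Z + h + ∑ e, (s.1 e).1 := by
      simp only [rest, Z, h, add_mul, one_mul, sum_add_distrib, ← mul_sum]
      ring_nf
    have hx : (1 / (q : ℚ)) ≤ x := one_div_le_one_div_of_le (by norm_num) (by exact_mod_cast hq3)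
    have hx2 : (1 / (q : ℚ)) ≤ rr ^ 2 := hx.trans (by norm_num [rr, x])
    have hpow : ((q ^ (m + 1 - rest s + ∑ e, (s.1 e).1) : ℕ) : ℚ) = (q : ℚ) ^ (m + 1) * (1 / (q : ℚ)) ^ (Z + h) := by
      have e : m + 1 = (m + 1 - rest s + ∑ e, (s.1 e).1) + (Z + h) := by omega
      have hq0 : (q : ℚ) ≠ 0 := by
        have : 0 < q := by omega
        positivity
      rw [Nat.cast_pow]
      conv_rhs => rw [e, pow_add, mul_assoc, ← mul_pow, mul_one_div_cancel hq0, one_pow, mul_one]
    rw [hpow, pow_add (1 / (q : ℚ)), hT2, pow_mul rr]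
    exact mul_le_mul_of_nonneg_left (mul_le_mul (pow_le_pow_left₀ (by positivity) hx Z)
      (pow_le_pow_left₀ (by positivity) hx2 h) (by positivity) (by positivity)) (by positivity)
  have hrr : (0 : ℚ) ≤ rr := by norm_num [rr]
  have hsum : ∑ s : S, wgt s ≤ minusProd * ∑ b ∈ Bs, rr ^ wsum b := by
    simp only [wgt, S]
    rw [Fintype.sum_prod_type]
    dsimp only
    rw [← Finset.sum_mul_sum, Finset.sum_coe_sort Bs (fun b => rr ^ wsum b)]
    refine mul_le_mul_of_nonneg_right ?_ (sum_nonneg fun b _ => pow_nonneg hrr _)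
    rw [← Fintype.prod_sum (fun (e : Fin (2 * m + 1)) (d : Fin (m + 2)) => x ^ ((e.1 + 1) * d.1))]
    have h2 : ∀ e : Fin (2 * m + 1), ∑ d : Fin (m + 2), x ^ ((e.1 + 1) * d.1) ≤ 1 / (1 - x ^ (e.1 + 1)) := fun e => by
      simp only [pow_mul]
      rw [Fin.sum_univ_eq_sum_range (fun d => (x ^ (e.1 + 1)) ^ d)]
      exact SpClassBound.geom_le (by positivity) (pow_lt_one₀ (by norm_num [x]) (by norm_num [x]) (by omega)) _
    refine le_trans (prod_le_prod (fun e _ => sum_nonneg fun d _ => by positivity) fun e _ => h2 e) ?_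
    rw [Fin.prod_univ_eq_prod_range (fun i => 1 / (1 - x ^ (i + 1)))]
    exact SpClassBound.prod_minus_le _
  have hwpos : ∀ s : S, 0 ≤ wgt s := fun s => mul_nonneg (by positivity) (pow_nonneg hrr _)
  refine le_trans (Nat.cast_le.mpr hcard) ?_
  rw [hTcard, Nat.cast_sum]
  refine le_trans (sum_le_sum fun s _ => hterm s) ?_
  rw [← mul_sum]
  refine mul_le_mul_of_nonneg_left (le_trans ?_ hsum) (by positivity)
  rw [← sum_subtype (univ.filter fun s => rest s ≤ m + 1) (fun s => by simp) wgt]
  exact sum_le_sum_of_subset_of_nonneg (filter_subset _ _) fun s _ _ => hwpos s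

theorem tail_geom {y c : ℚ} (hy0 : 0 ≤ y) (hy1 : y < 1) (hc : 1 ≤ c * (1 - y)) :
    ∀ (N : ℕ) (a : ℚ), 0 ≤ a → c * a < 1 → ∏ i ∈ range N, (1 + a * y ^ i) ≤ 1 / (1 - c * a) := by
  have hc0 : 0 ≤ c := by nlinarith
  intro N
  induction N with
  | zero =>
    intro a ha h
    rw [range_zero, prod_empty, le_div_iff₀ (by linarith)]
    nlinarith
  | succ N ih =>
    intro a ha h
    have hlt : c * (a * y) < 1 := by nlinarith [mul_nonneg hc0 ha]
    rw [prod_range_succ', prod_congr rfl (g := fun i => 1 + a * y * y ^ i) fun i _ => by ring, pow_zero, mul_one]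
    refine (mul_le_mul_of_nonneg_right (ih _ (mul_nonneg ha hy0) hlt) (by linarith)).trans ?_
    rw [div_mul_eq_mul_div, one_mul, div_le_div_iff₀ (by linarith) (by linarith)]
    have hk : a * 1 ≤ a * (c * (1 - y)) := mul_le_mul_of_nonneg_left hc ha
    nlinarith [mul_nonneg (mul_nonneg ha ha) hc0]

/-- The bound for the series of the odd powers of `r`. -/
theorem odd_prod_le {r c : ℚ} (h0 : 0 ≤ r) (h1 : r < 1) (hc : 1 ≤ c * (1 - r ^ 2)) (ht : c * r ^ 13 < 1) (N : ℕ) :
    ∏ i ∈ range N, (1 + r ^ (2 * i + 1)) ≤ (∏ i ∈ range 6, (1 + r ^ (2 * i + 1))) * (1 / (1 - c * r ^ 13)) := by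
  calc ∏ i ∈ range N, (1 + r ^ (2 * i + 1)) ≤ ∏ i ∈ range (6 + N), (1 + r ^ (2 * i + 1)) := by
        refine prod_le_prod_of_subset_of_one_le (range_subset_range.mpr (by omega)) (fun i _ => by positivity) fun i _ _ => ?_
        exact le_add_of_nonneg_right (by positivity)
    _ ≤ _ := by
        rw [prod_range_add]
        refine mul_le_mul_of_nonneg_left ?_ (prod_nonneg fun i _ => by positivity)
        refine le_trans (le_of_eq (prod_congr rfl fun i _ => ?_))
          (tail_geom (y := r ^ 2) (by positivity) (pow_lt_one₀ h0 h1 two_ne_zero) hc N (r ^ 13) (by positivity) ht)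
        rw [← pow_mul, ← pow_add]
        congr 2
        omega

theorem prod_pos_eq (f : ℕ → ℚ) : ∏ p : Fin (m + 1) × Fin 2, f (sizeAt p) = (∏ i ∈ range (m + 1), f (2 * i + 1)) ^ 2 := by
  rw [Fintype.prod_prod_type]
  simp only [sizeAt, Fin.prod_univ_two, prod_mul_distrib, Fin.prod_univ_eq_prod_range (fun i => f (2 * i + 1))]
  ring

theorem sum_all (r : ℚ) :
    ∑ b : Fin (m + 1) × Fin 2 → Bool × Bool, r ^ wsum b = (∏ i ∈ range (m + 1), (1 + r ^ (2 * i + 1))) ^ 4 := by
  simp only [wsum, ← prod_pow_eq_pow_sum]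
  rw [← Fintype.prod_sum (fun (p : Fin (m + 1) × Fin 2) (x : Bool × Bool) => r ^ (sizeAt p * nb x))]
  rw [prod_congr rfl (g := fun p => (1 + r ^ sizeAt p) ^ 2) fun p _ => by
    simp [Fintype.sum_prod_type, nb]; ring]
  rw [prod_pos_eq (fun w => (1 + r ^ w) ^ 2), prod_pow, ← pow_mul]

/-- Even sizes. -/
theorem sum_even_le (hm : 1 ≤ m) :
    ∑ b ∈ (univ : Finset (Fin (m + 1) × Fin 2 → Bool × Bool)).filter (fun b => Even (wsum b)), rr ^ wsum b ≤
      (((∏ i ∈ range 6, (1 + rr ^ (2 * i + 1))) * (1 / (1 - 3 / 2 * (1 + 1 / 1000) * rr ^ 13))) ^ 4 +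
        ((1 - rr) * (1 - rr ^ 3)) ^ 4) / 2 := by
  have hrr : (0 : ℚ) ≤ rr := by norm_num [rr]
  have hrr1 : rr < 1 := by norm_num [rr]
  have h : ∑ b ∈ (univ : Finset (Fin (m + 1) × Fin 2 → Bool × Bool)).filter (fun b => Even (wsum b)), rr ^ wsum b =
      ((∑ b : Fin (m + 1) × Fin 2 → Bool × Bool, rr ^ wsum b) + ∑ b : Fin (m + 1) × Fin 2 → Bool × Bool, (-rr) ^ wsum b) / 2 := by
    rw [← sum_add_distrib, sum_div, sum_filter]
    refine sum_congr rfl fun b _ => ?_
    split_ifs with he
    · rw [he.neg_pow]; ring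
    · rw [(Nat.not_even_iff_odd.mp he).neg_pow]; ring
  rw [h, sum_all, sum_all]
  refine div_le_div_of_nonneg_right (add_le_add ?_ ?_) (by norm_num)
  · exact pow_le_pow_left₀ (prod_nonneg fun i _ => by positivity)
      (odd_prod_le hrr hrr1 (by norm_num [rr]) (by norm_num [rr]) _) 4
  · have e : ∀ i, 1 + (-rr) ^ (2 * i + 1) = 1 - rr ^ (2 * i + 1) := fun i => by
      rw [(odd_two_mul_add_one i).neg_pow]; ring
    simp only [e]
    have hp : ∀ i, 0 ≤ 1 - rr ^ (2 * i + 1) ∧ 1 - rr ^ (2 * i + 1) ≤ 1 := fun i =>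
      ⟨sub_nonneg.mpr (pow_le_one₀ hrr hrr1.le), sub_le_self _ (by positivity)⟩
    refine pow_le_pow_left₀ (prod_nonneg fun i _ => (hp i).1) ?_ 4
    obtain ⟨k, rfl⟩ : ∃ k, m = k + 1 := ⟨m - 1, by omega⟩
    rw [show k + 1 + 1 = 2 + k by ring, prod_range_add, prod_range_succ, prod_range_one]
    refine le_trans (mul_le_of_le_one_right ?_ (prod_le_one (fun i _ => (hp _).1) fun i _ => (hp _).2)) (le_of_eq ?_)
    · exact mul_nonneg (hp 0).1 (hp 1).1
    · norm_num

/-- Equal pairs with an empty first pair. -/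
noncomputable def equalFirst (m : ℕ) : Finset (Fin (m + 1) × Fin 2 → Bool × Bool) :=
  univ.filter fun b => (∀ p, (b p).1 = (b p).2) ∧ b (0, 0) = (false, false)

theorem sum_equalFirst_le :
    ∑ b ∈ (equalFirst m).filter (fun b => Even (wsum b)), rr ^ wsum b ≤
      ((∏ i ∈ range 6, (1 + (rr ^ 2) ^ (2 * i + 1))) * (1 / (1 - 6 / 5 * (rr ^ 2) ^ 13))) ^ 2 / (1 + rr ^ 2) := by
  have hrr : (0 : ℚ) ≤ rr := by norm_num [rr]
  have hpos : (0 : ℚ) < 1 + rr ^ 2 := by positivity
  refine le_trans (sum_le_sum_of_subset_of_nonneg (filter_subset _ _) fun b _ _ => pow_nonneg hrr _) ?_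
  rw [le_div_iff₀ hpos]
  let t : Fin (m + 1) × Fin 2 → Finset (Bool × Bool) := fun p =>
    if p = (0, 0) then {(false, false)} else {(false, false), (true, true)}
  have heq : equalFirst m = Fintype.piFinset t := by
    ext b
    simp only [equalFirst, mem_filter, mem_univ, true_and, Fintype.mem_piFinset, t]
    constructor
    · rintro ⟨h1, h2⟩ p
      split_ifs with hp
      · simp [hp, h2]
      · have := h1 p
        rcases hb : b p with ⟨x, y⟩
        rw [hb] at this
        cases x <;> cases y <;> simp_all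
    · intro h
      refine ⟨fun p => ?_, by simpa using h (0, 0)⟩
      have := h p
      split_ifs at this with hp <;> simp at this
      · simp [this]
      · rcases this with h' | h' <;> simp [h']
  rw [heq]
  simp only [wsum, ← prod_pow_eq_pow_sum]
  rw [← prod_univ_sum t (fun (p : Fin (m + 1) × Fin 2) (x : Bool × Bool) => rr ^ (sizeAt p * nb x))]
  calc (∏ p, ∑ x ∈ t p, rr ^ (sizeAt p * nb x)) * (1 + rr ^ 2)
      = ∏ p : Fin (m + 1) × Fin 2, (1 + (rr ^ 2) ^ sizeAt p) := by
        rw [← mul_prod_erase univ _ (mem_univ ((0, 0) : Fin (m + 1) × Fin 2)),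
          ← mul_prod_erase univ (fun p : Fin (m + 1) × Fin 2 => 1 + (rr ^ 2) ^ sizeAt p) (mem_univ (0, 0))]
        rw [prod_congr rfl (g := fun p => 1 + (rr ^ 2) ^ sizeAt p) fun p hp => by
          simp [t, (mem_erase.mp hp).1, nb, ← pow_mul, mul_comm]]
        simp [t, nb, sizeAt]
        ring
    _ ≤ _ := by
        rw [prod_pos_eq (fun w => 1 + (rr ^ 2) ^ w)]
        exact pow_le_pow_left₀ (prod_nonneg fun i _ => by positivity)
          (odd_prod_le (by positivity) (by norm_num [rr]) (by norm_num [rr]) (by norm_num [rr]) _) 2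

theorem numeric_bound :
    minusProd * ((((∏ i ∈ range 6, (1 + rr ^ (2 * i + 1))) * (1 / (1 - 3 / 2 * (1 + 1 / 1000) * rr ^ 13))) ^ 4 +
        ((1 - rr) * (1 - rr ^ 3)) ^ 4) / 2 +
      ((∏ i ∈ range 6, (1 + (rr ^ 2) ^ (2 * i + 1))) * (1 / (1 - 6 / 5 * (rr ^ 2) ^ 13))) ^ 2 / (1 + rr ^ 2)) ≤ 19 := by
  norm_num [minusProd, rr, prod_range_succ]

/-- A set of codes avoiding its flips is small. -/
theorem card_le_of_flip (h2 : (2 : K) ≠ 0) (hq3 : 3 ≤ Fintype.card K) (hm : 1 ≤ m) (L : Set (Raw K m))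
    (hL : ∀ c ∈ L, IsCode c) (hflip : ∀ c ∈ L, ∀ p, (c.2 p).1 ≠ (c.2 p).2 → flipAt p c ∉ L)
    (hpush : ∀ c ∈ L, c.2 (0, 0) = (true, true) → push c ∉ L) :
    Finite L ∧ 2 * Nat.card L ≤ 19 * Fintype.card K ^ (m + 1) := by
  obtain ⟨hfinA, hA⟩ := card_codes_set (K := K) hq3 m univ
  obtain ⟨hfinE, hE⟩ := card_codes_set (K := K) hq3 m (equalFirst m)
  have hAll : {c : Raw K m | IsCode c}.Finite := by
    rw [← Set.finite_coe_iff]
    exact Finite.of_injective (β := {c : Raw K m // IsCode c ∧ c.2 ∈ (univ : Finset _)})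
      (fun c => ⟨c.1, c.2, mem_univ _⟩) fun a b h => by simpa [Subtype.ext_iff] using h
  let All := hAll.toFinset
  have hmemAll : ∀ c, c ∈ All ↔ IsCode c := fun c => by simp [All]
  let E0 := All.filter fun c => c.2 ∈ equalFirst m
  let NonE := All.filter fun c => ∃ p, (c.2 p).1 ≠ (c.2 p).2
  let Ls := All.filter fun c => c ∈ L
  let U : (Fin (m + 1) × Fin 2 → Bool × Bool) → Finset (Fin (m + 1) × Fin 2) :=
    fun b => univ.filter fun p => (b p).1 ≠ (b p).2
  let pos : Finset (Fin (m + 1) × Fin 2) → Fin (m + 1) × Fin 2 := fun s =>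
    if h : s.Nonempty then h.choose else (0, 0)
  let σ : Raw K m → Raw K m := fun c => flipAt (pos (U c.2)) c
  have hpos : ∀ c : Raw K m, (∃ p, (c.2 p).1 ≠ (c.2 p).2) →
      (c.2 (pos (U c.2))).1 ≠ (c.2 (pos (U c.2))).2 := fun c ⟨p, hp⟩ => by
    have hne : (U c.2).Nonempty := ⟨p, by simp [U, hp]⟩
    have := hne.choose_spec
    simp only [pos, dif_pos hne]
    exact (mem_filter.mp this).2
  have hUσ : ∀ c : Raw K m, U (σ c).2 = U c.2 := fun c => by
    ext p
    simp only [U, σ, flipAt, mem_filter, mem_univ, true_and]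
    by_cases hp : p = pos (U c.2)
    · subst hp; simp [U, ne_comm]
    · simp [U] at hp ⊢; simp [Function.update_of_ne hp]
  have hσσ : ∀ c : Raw K m, σ (σ c) = c := fun c => by
    show flipAt (pos (U (σ c).2)) (σ c) = c
    rw [hUσ]
    refine Prod.ext rfl ?_
    simp [σ, flipAt]
  have hσcode : ∀ c, IsCode c → IsCode (σ c) := fun c ⟨hc1, hc2⟩ => by
    refine ⟨hc1, ?_⟩
    rw [show wsum (σ c).2 = wsum c.2 from sum_congr rfl fun p _ => by
      by_cases hp : p = pos (U c.2)
      · subst hp; simp [σ, flipAt, nb, add_comm]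
      · simp [σ, flipAt, Function.update_of_ne hp]]
    exact hc2
  have hσne : ∀ c, (∃ p, (c.2 p).1 ≠ (c.2 p).2) → ∃ p, ((σ c).2 p).1 ≠ ((σ c).2 p).2 := fun c hc => by
    have h := hpos c hc
    exact ⟨pos (U c.2), by simp [σ, flipAt, ne_comm, h]⟩
  -- unequal pairs
  let LA := Ls.filter fun c => ∃ p, (c.2 p).1 ≠ (c.2 p).2
  have hLA : 2 * LA.card ≤ NonE.card := by
    have hd : Disjoint LA (LA.image σ) := disjoint_left.mpr fun c hc hc' => by
      obtain ⟨d, hd, rfl⟩ := mem_image.mp hc'
      simp only [LA, Ls, mem_filter] at hc hd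
      exact hflip d hd.1.2 _ (hpos d hd.2) hc.1.2
    have hsub : LA ∪ LA.image σ ⊆ NonE := fun c hc => by
      simp only [NonE, mem_filter, hmemAll]
      rcases mem_union.mp hc with hc | hc
      · simp only [LA, Ls, mem_filter, hmemAll] at hc; exact ⟨hc.1.1, hc.2⟩
      · obtain ⟨d, hd, rfl⟩ := mem_image.mp hc
        simp only [LA, Ls, mem_filter, hmemAll] at hd
        exact ⟨hσcode d hd.1.1, hσne d hd.2⟩
    have := card_le_card hsub
    rw [card_union_of_disjoint hd, card_image_of_injective _ (Function.Involutive.injective hσσ)] at this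
    omega
  -- equal pairs
  let LE := Ls.filter fun c => ¬ ∃ p, (c.2 p).1 ≠ (c.2 p).2
  have hLE : LE.card ≤ E0.card := by
    refine card_le_card_of_injOn (fun c => if c.2 (0, 0) = (true, true) then push c else c) (fun c hc => ?_)
      fun c hc d hd h => ?_
    · simp only [LE, Ls, mem_coe, mem_filter, hmemAll, not_exists, not_not] at hc
      simp only [E0, mem_coe, mem_filter, hmemAll, equalFirst, mem_univ, true_and]
      by_cases h00 : c.2 (0, 0) = (true, true)
      · rw [if_pos h00]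
        refine ⟨⟨fun e => ?_, ?_⟩, fun p => ?_, by simp [push]⟩
        · by_cases he : e = 0
          · subst he
            obtain ⟨D, hm', hdg, hz, hrev⟩ := hc.1.1.1 0
            have hP : SpClassBound.IsRecip (c.1 0) :=
              ⟨hm', by rw [hz]; exact one_ne_zero, by rw [hz, C_1, one_mul, hrev]⟩
            have hQ := hP.mul ((SpClassBound.isRecip_linear (one_mul (1 : K))).pow 2)
            have hz' : (c.1 0 * (X - C (1 : K)) ^ 2).coeff 0 = 1 := by
              rw [mul_coeff_zero, hz, coeff_zero_eq_eval_zero]; simp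
            refine ⟨D + 1, ?_⟩
            simp only [push, Function.update_self]
            exact ⟨hQ.1, by
              rw [hm'.natDegree_mul ((monic_X_sub_C _).pow _), natDegree_pow, natDegree_X_sub_C, hdg]; ring,
              hz', by rw [hQ.2.2, hz', C_1, one_mul]⟩
          · simp only [push, Function.update_of_ne he]; exact hc.1.1.1 e
        · have h := hc.1.1.2
          obtain ⟨D, hm', hdg, -, -⟩ := hc.1.1.1 0
          have e1 : ∑ e, (e.1 + 1) * ((push c).1 e).natDegree = ∑ e, (e.1 + 1) * (c.1 e).natDegree + 2 := by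
            rw [← add_sum_erase univ _ (mem_univ (0 : Fin (2 * m + 1 + 1))),
              ← add_sum_erase univ (fun e => (e.1 + 1) * (c.1 e).natDegree) (mem_univ (0 : Fin (2 * m + 1 + 1))),
              sum_congr rfl (g := fun e : Fin (2 * m + 1 + 1) => (e.1 + 1) * (c.1 e).natDegree) fun e he => by
                simp [push, Function.update_of_ne (mem_erase.mp he).1]]
            simp only [push, Function.update_self, Fin.val_zero, zero_add, one_mul]
            rw [hm'.natDegree_mul ((monic_X_sub_C (1 : K)).pow 2), natDegree_pow, natDegree_X_sub_C]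
            ring
          have e2 : wsum c.2 = wsum (push c).2 + 2 := by
            simp only [wsum]
            rw [← add_sum_erase univ _ (mem_univ ((0, 0) : Fin (m + 1) × Fin 2)),
              ← add_sum_erase univ (fun p => sizeAt p * nb ((push c).2 p)) (mem_univ ((0, 0) : Fin (m + 1) × Fin 2)),
              sum_congr rfl (g := fun p => sizeAt p * nb ((push c).2 p)) fun p hp => by
                simp [push, Function.update_of_ne (mem_erase.mp hp).1]]
            simp [push, sizeAt, nb, h00]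
            ring
          omega
        · by_cases hp : p = (0, 0)
          · subst hp; simp [push]
          · simp [push, Function.update_of_ne hp, hc.2 p]
      · rw [if_neg h00]
        refine ⟨hc.1.1, hc.2, ?_⟩
        have := hc.2 (0, 0)
        rcases hb : c.2 (0, 0) with ⟨x, y⟩
        rw [hb] at this h00
        cases x <;> cases y <;> simp_all
    · simp only [LE, Ls, mem_coe, mem_filter, hmemAll] at hc hd
      simp only at h
      split_ifs at h with hc0 hd0 hd0
      · refine Prod.ext (funext fun e => ?_) (funext fun p => ?_)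
        · have := congrFun (congrArg Prod.fst h) e
          by_cases he : e = 0
          · subst he
            simp only [push, Function.update_self] at this
            exact mul_right_cancel₀ (pow_ne_zero _ (X_sub_C_ne_zero _)) this
          · simpa [push, Function.update_of_ne he] using this
        · by_cases hp : p = (0, 0)
          · subst hp; rw [hc0, hd0]
          · simpa [push, Function.update_of_ne hp] using congrFun (congrArg Prod.snd h) p
      · exact absurd (h ▸ hd.1.2) (hpush c hc.1.2 hc0)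
      · exact absurd (h ▸ hc.1.2) (hpush d hd.1.2 hd0)
      · exact h
  have hsplit : Ls.card = LA.card + LE.card := (card_filter_add_card_filter_not _).symm
  have hsum : NonE.card + E0.card ≤ All.card := by
    rw [← card_union_of_disjoint]
    · exact card_le_card (union_subset (filter_subset _ _) (filter_subset _ _))
    · refine disjoint_left.mpr fun c hc hc' => ?_
      simp only [NonE, E0, equalFirst, mem_filter, mem_univ, true_and] at hc hc'
      obtain ⟨p, hp⟩ := hc.2
      exact hp (hc'.2.1 p)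
  have hcA : All.card = Nat.card {c : Raw K m // IsCode c ∧ c.2 ∈ (univ : Finset _)} := by
    rw [← Nat.card_eq_finsetCard]
    exact Nat.card_congr (Equiv.subtypeEquivRight fun c => by simp [hmemAll])
  have hcE : E0.card = Nat.card {c : Raw K m // IsCode c ∧ c.2 ∈ equalFirst m} := by
    rw [← Nat.card_eq_finsetCard]
    exact Nat.card_congr (Equiv.subtypeEquivRight fun c => by simp [E0, hmemAll])
  have hcL : Nat.card L = Ls.card := by
    rw [← Nat.card_eq_finsetCard]
    exact Nat.card_congr (Equiv.subtypeEquivRight fun c => by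
      simp only [Ls, mem_filter, hmemAll]
      exact ⟨fun h => ⟨hL c h, h⟩, fun h => h.2⟩)
  refine ⟨Finite.of_injective (β := {c : Raw K m // IsCode c ∧ c.2 ∈ (univ : Finset _)})
    (fun c => ⟨c.1, hL _ c.2, mem_univ _⟩) fun a b h => by simpa [Subtype.ext_iff] using h, ?_⟩
  rw [hcL, ← Nat.cast_le (α := ℚ)]
  have hle : 2 * Ls.card ≤ All.card + E0.card := by omega
  have hmin : (0 : ℚ) ≤ minusProd := by norm_num [minusProd, prod_range_succ]
  push_cast
  calc (2 : ℚ) * Ls.card ≤ All.card + E0.card := by exact_mod_cast hle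
    _ ≤ (Fintype.card K : ℚ) ^ (m + 1) * (minusProd *
          ∑ b ∈ (univ : Finset (Fin (m + 1) × Fin 2 → Bool × Bool)).filter (fun b => Even (wsum b)), rr ^ wsum b) +
        (Fintype.card K : ℚ) ^ (m + 1) * (minusProd *
          ∑ b ∈ (equalFirst m).filter (fun b => Even (wsum b)), rr ^ wsum b) := by
        rw [hcA, hcE]; exact add_le_add hA hE
    _ ≤ 19 * (Fintype.card K : ℚ) ^ (m + 1) := by
        rw [← mul_add, ← mul_add, mul_comm (19 : ℚ)]
        exact mul_le_mul_of_nonneg_left (le_trans (mul_le_mul_of_nonneg_left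
          (add_le_add (sum_even_le hm) sum_equalFirst_le) hmin) numeric_bound) (by positivity)

end CfsgLib.Classical.OrthClassBound
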