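import Cfsg.Agent.Lib.Classical.SpClassBound.Decompose
import Cfsg.Agent.Lib.Classical.SymmDisc

/-!
Two decompositions differing in one sign belong to different discriminants.
-/

set_option autoImplicit false
set_option linter.style.haveILetI false
set_option linter.unusedSectionVars false

namespace CfsgLib.Classical.OrthClassBound

open Polynomial Module CfsgLib.Classical.SpClassBound

open scoped _root_.Classical

variable {K : Type*} [Field K] [Finite K] {V : Type*} [AddCommGroup V] [Module K V] [FiniteDimensional K V]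
  {g g' : V ≃ₗ[K] V} {B : LinearMap.BilinForm K V}

/-- One space has no two decompositions differing in exactly one sign. -/
theorem flip_not_both (h2 : (2 : K) ≠ 0) (hI : Isom B g (1 : K)) (hI' : Isom B g' (1 : K)) {c : K} {e : ℕ}
    {s s' : Bool} (hss : s ≠ s') {l : List (Key K)} (h : Decomp g B (1 : K) ⊤ (.sgn c e s :: l))
    (h' : Decomp g' B (1 : K) ⊤ (.sgn c e s' :: l)) : False := by
  obtain ⟨S, W, hk, hd, ho, htop⟩ := h.cons_inv
  obtain ⟨S', W', hk', hd', ho', htop'⟩ := h'.cons_inv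
  obtain ⟨Γ, hΓ1, hΓ2, -, hΓ⟩ := Decomp.iso h2 hI hI' hd hd'
  obtain ⟨hc, he, hpar, v, hv, ha, hs, hS⟩ := hk
  obtain ⟨-, -, -, v', hv', ha', hs', hS'⟩ := hk'
  have hR := (isRecip_linear hc).pow e
  have hodd : Odd e := by
    rcases Nat.even_or_odd e with hev | hod
    · rw [hev.neg_one_pow, mul_one] at hpar
      exact absurd (show (2 : K) = 0 by linear_combination hpar) h2
    · exact hod
  have hnd := fun a => nondeg_of_socle (e := e) (irreducible_X_sub_C c) (psi g B hR.1 v v) (by rwa [psi_pow_pred _ hv]) a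
  have hnd' := fun a => nondeg_of_socle (e := e) (irreducible_X_sub_C c) (psi g' B hR.1 v' v') (by rwa [psi_pow_pred _ hv']) a
  obtain ⟨u, hu, hfix, hr⟩ := exists_fixed_multiplier hI hI' hR hv hv' hnd hnd'
  set a := B (act g ((X - C c) ^ (e - 1)) v) v with hadef
  set a' := B (act g' ((X - C c) ^ (e - 1)) v') v' with ha'def
  set r0 := a' / a with hr0
  have hr0ne : r0 ≠ 0 := div_ne_zero ha' ha
  have hns : ¬ IsSquare r0 := by
    rintro ⟨t, ht⟩
    refine hss (Bool.eq_iff_iff.mpr ?_)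
    rw [hs, hs']
    have ht0 : t ≠ 0 := fun h0 => hr0ne (by rw [ht, h0, mul_zero])
    have hat : a' = t * t * a := by rw [← ht, hr0, div_mul_cancel₀ _ ha]
    rw [hat]
    constructor
    · exact fun hsq => (IsSquare.mul_self t).mul hsq
    · intro hsq
      have : a = (t * t * a) * (t⁻¹ * t⁻¹) := by field_simp
      rw [this]
      exact hsq.mul (IsSquare.mul_self _)
  have hπ : psi g B hR.1 v v (AdjoinRoot.mk _ ((X - C c) ^ (e - 1)) * (r0⁻¹ • u)) =
      1 * 1 * psi g B hR.1 v v (AdjoinRoot.mk _ ((X - C c) ^ (e - 1))) := by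
    rw [mul_smul_comm, map_smul, ← hr, psi_pow_pred _ hv', psi_pow_pred _ hv, smul_eq_mul, ← hadef, ← ha'def, hr0]
    field_simp
  obtain ⟨z, hz, hzu⟩ := exists_sqrt h2 hc he (r0⁻¹ • u) (by rw [map_smul, hfix]) (psi g B hR.1 v v)
    (by rwa [psi_pow_pred _ hv]) one_ne_zero hπ
  obtain ⟨hw, hrange, hw4⟩ := exists_norm_generator hI hR hv hz hzu
  set w := orb g hR.1 v z with hwdef
  have hsc : ∀ r, psi g' B hR.1 v' v' r = r0 * psi g B hR.1 w w r := fun r => by
    rw [hw4, hr, mul_smul_comm, map_smul, smul_eq_mul, ← mul_assoc, mul_inv_cancel₀ hr0ne, one_mul]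
  have hSw : S = LinearMap.range (orb g hR.1 w) := by rw [hS, hrange]
  have : FiniteDimensional K (AdjoinRoot ((X - C c) ^ e)) := hR.1.finite_adjoinRoot
  let Φ : (AdjoinRoot ((X - C c) ^ e) × Γ) →ₗ[K] V :=
    (orb g hR.1 w).coprod (LinearMap.fst K V V ∘ₗ Γ.subtype)
  let Φ' : (AdjoinRoot ((X - C c) ^ e) × Γ) →ₗ[K] V :=
    (orb g' hR.1 v').coprod (LinearMap.snd K V V ∘ₗ Γ.subtype)
  have m1 : ∀ p : Γ, (p : V × V).1 ∈ W := fun p => hΓ1 ▸ Submodule.mem_map_of_mem p.2
  have m2 : ∀ p : Γ, (p : V × V).2 ∈ W' := fun p => hΓ2 ▸ Submodule.mem_map_of_mem p.2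
  have o1 : ∀ r (p : Γ), B (orb g hR.1 w r) (p : V × V).1 = 0 := fun r p =>
    ho _ (hSw ▸ LinearMap.mem_range_self _ r) _ (m1 p)
  have o2 : ∀ r (p : Γ), B (orb g' hR.1 v' r) (p : V × V).2 = 0 := fun r p =>
    ho' _ (hS' ▸ LinearMap.mem_range_self _ r) _ (m2 p)
  -- the map `Φ` is an isomorphism
  have hndw : ∀ b, (∀ r, psi g B hR.1 w w (r * b) = 0) → b = 0 := fun b hb => hnd' b fun r => by
    rw [hsc, hb, mul_zero]
  have hinj : Function.Injective Φ := by
    refine (injective_iff_map_eq_zero Φ).mpr ?_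
    rintro ⟨r, p⟩ h0
    simp only [Φ, LinearMap.coprod_apply, LinearMap.comp_apply, Submodule.coe_subtype, LinearMap.fst_apply] at h0
    have hr0' : r = 0 := by
      have hz0 : tau hR r = 0 := hndw _ fun t => by
        rw [← form_orb hI hR hw hw, eq_neg_of_add_eq_zero_left h0, map_neg, o1, neg_zero]
      rw [← tau_tau hR r, hz0, map_zero]
    subst hr0'
    rw [map_zero, zero_add] at h0
    refine Prod.ext rfl (Subtype.ext (Prod.ext h0 ?_))
    show (p : V × V).2 = 0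
    refine hI'.nondeg _ fun y => ?_
    obtain ⟨x, hx, t, ht, rfl⟩ := Submodule.mem_sup.mp (htop' ▸ (Submodule.mem_top : y ∈ (⊤ : Submodule K V)))
    rw [map_add, hI'.symm_zero (ho' x hx _ (m2 p)), zero_add]
    obtain ⟨q, hq, rfl⟩ : t ∈ Γ.map (LinearMap.snd K V V) := hΓ2.symm ▸ ht
    show B (p : V × V).2 q.2 = 0
    rw [← hΓ p p.2 q hq, h0, map_zero, LinearMap.zero_apply]
  have hsurj : Function.Surjective Φ := fun y => by
    obtain ⟨x, hx, t, ht, rfl⟩ := Submodule.mem_sup.mp (htop ▸ (Submodule.mem_top : y ∈ (⊤ : Submodule K V)))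
    obtain ⟨r, rfl⟩ : x ∈ LinearMap.range (orb g hR.1 w) := hSw ▸ hx
    obtain ⟨q, hq, rfl⟩ : t ∈ Γ.map (LinearMap.fst K V V) := hΓ1.symm ▸ ht
    exact ⟨(r, ⟨q, hq⟩), rfl⟩
  let eΦ := LinearEquiv.ofBijective Φ ⟨hinj, hsurj⟩
  let D : (AdjoinRoot ((X - C c) ^ e) × Γ) →ₗ[K] (AdjoinRoot ((X - C c) ^ e) × Γ) :=
    (r0 • LinearMap.id).prodMap LinearMap.id
  have hscale : ∀ x y, B (Φ' x) (Φ' y) = B (Φ (D x)) (Φ y) := by
    rintro ⟨r, p⟩ ⟨t, q⟩
    simp only [Φ, Φ', D, LinearMap.coprod_apply, LinearMap.comp_apply, Submodule.coe_subtype, LinearMap.fst_apply,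
      LinearMap.snd_apply, LinearMap.prodMap_apply, LinearMap.smul_apply, LinearMap.id_apply, map_add,
      LinearMap.add_apply, o1, o2, hI.symm_zero (o1 _ _), hI'.symm_zero (o2 _ _), form_orb hI' hR hv' hv',
      map_smul, form_orb hI hR hw hw, hsc, hΓ p p.2 q q.2, smul_zero, smul_eq_mul, mul_zero]
  let τ : V →ₗ[K] V := Φ' ∘ₗ eΦ.symm.toLinearMap
  let μ : V →ₗ[K] V := eΦ.toLinearMap ∘ₗ D ∘ₗ eΦ.symm.toLinearMap
  have hcomp : B.compl₁₂ τ τ = B.compl₁₂ μ LinearMap.id := LinearMap.ext₂ fun x y => by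
    simp only [LinearMap.compl₁₂_apply, τ, μ, LinearMap.comp_apply, LinearEquiv.coe_coe, LinearMap.id_apply, hscale]
    rw [show eΦ (D (eΦ.symm x)) = Φ (D (eΦ.symm x)) from rfl, show Φ (eΦ.symm y) = eΦ (eΦ.symm y) from rfl,
      eΦ.apply_symm_apply]
  have hdet := congrArg (fun C => (LinearMap.toMatrix₂ (Module.finBasis K V) (Module.finBasis K V) C).det) hcomp
  simp only [LinearMap.toMatrix₂_compl₁₂ (Module.finBasis K V) (Module.finBasis K V) (Module.finBasis K V)
    (Module.finBasis K V), Matrix.det_mul, Matrix.det_transpose, LinearMap.det_toMatrix, LinearMap.det_id,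
    mul_one] at hdet
  have hM := SymmDisc.det_ne_zero B hI.nondeg (Module.finBasis K V)
  have hD : LinearMap.det μ = r0 ^ e := by
    show LinearMap.det (eΦ.toLinearMap ∘ₗ D ∘ₗ eΦ.symm.toLinearMap) = _
    simp only [LinearMap.det_conj, D, LinearMap.det_prodMap, LinearMap.det_smul, LinearMap.det_id, mul_one,
      finrank_adjoinRoot hR.1, natDegree_pow, natDegree_X_sub_C]
  rw [hD] at hdet
  have hsq : r0 ^ e = LinearMap.det τ * LinearMap.det τ := mul_right_cancel₀ hM (by linear_combination -hdet)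
  refine hns ?_
  obtain ⟨k, rfl⟩ := hodd
  refine ⟨LinearMap.det τ / r0 ^ k, ?_⟩
  rw [div_mul_div_comm, ← hsq, ← pow_add, eq_div_iff (pow_ne_zero _ hr0ne), ← pow_succ']
  congr 1
  omega

end CfsgLib.Classical.OrthClassBound
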