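import Cfsg.Agent.Lib.Classical.OrthClassBound.Flip
import Cfsg.Agent.Lib.Classical.OrthClassBound.Count
import Cfsg.Agent.Lib.Classical.OrthClassBound.Lower
import Cfsg.Prelude.Def_Classical

/-!
Bounding the classes of the orthogonal groups of even dimension.
-/

set_option autoImplicit false
set_option linter.style.haveILetI false
set_option linter.unusedSectionVars false

namespace CfsgLib.Classical.OrthClassBound

open Polynomial Module Matrix CfsgLib.Classical.SpClassBound QuadraticMap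

open scoped _root_.Classical

variable {K : Type*} [Field K]

theorem code_perm (m : ℕ) {l l' : List (Key K)} (h : l.Perm l') : code m l = code m l' := by
  have hb : ∀ c e b, bit l c e b = bit l' c e b := fun c e b => by simp only [bit, h.count_eq, h.mem_iff]
  have hh : ∀ c e, halfMult l c e = halfMult l' c e := fun c e => by simp only [halfMult, h.count_eq, h.mem_iff]
  have hg : ∀ e, genProd l e = genProd l' e := fun e => (h.map _).prod_eq
  simp only [code, codePoly, hb, hh, hg]

variable {ι : Type} [Fintype ι] [DecidableEq ι] {Q : QuadraticForm K (ι → K)}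

/-- An isometry as a linear automorphism. -/
noncomputable def equiv (A : Cfsg.isometryGroup K ⇑Q) : (ι → K) ≃ₗ[K] (ι → K) :=
  LinearEquiv.ofLinearMap (Matrix.toLin' ((A : GL ι K) : Matrix ι ι K))
    (Matrix.toLin' (((A : GL ι K)⁻¹ : GL ι K) : Matrix ι ι K))
    (by rw [← Matrix.toLin'_mul, ← Units.val_mul, mul_inv_cancel, Units.val_one, Matrix.toLin'_one])
    (by rw [← Matrix.toLin'_mul, ← Units.val_mul, inv_mul_cancel, Units.val_one, Matrix.toLin'_one])

theorem equiv_apply (A : Cfsg.isometryGroup K ⇑Q) (v : ι → K) : equiv A v = ((A : GL ι K) : Matrix ι ι K) *ᵥ v :=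
  Matrix.toLin'_apply _ v

variable (hnd : ∀ v, (∀ w, polarBilin Q v w = 0) → v = 0)
include hnd

theorem isom_equiv (A : Cfsg.isometryGroup K ⇑Q) : Isom (polarBilin Q) (equiv A) (1 : K) where
  symm u v := by rw [one_mul]; exact QuadraticMap.polar_comm _ _ _
  sq := one_mul 1
  nondeg := hnd
  inv u v := by
    have h : ∀ x, Q (equiv A x) = Q x := fun x => by rw [equiv_apply]; exact A.2 x x
    show QuadraticMap.polar ⇑Q _ _ = QuadraticMap.polar ⇑Q u v
    simp only [QuadraticMap.polar, ← map_add, h]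

omit hnd in
theorem mem_of_polar (h2 : (2 : K) ≠ 0) {g : (ι → K) ≃ₗ[K] (ι → K)}
    (hg : ∀ x y, polarBilin Q (g x) (g y) = polarBilin Q x y) :
    ∃ A : Cfsg.isometryGroup K ⇑Q, ∀ x, equiv A x = g x := by
  let c : GL ι K := ⟨LinearMap.toMatrix' (g : (ι → K) →ₗ[K] (ι → K)),
    LinearMap.toMatrix' (g.symm : (ι → K) →ₗ[K] (ι → K)),
    by rw [← LinearMap.toMatrix'_comp]; simp, by rw [← LinearMap.toMatrix'_comp]; simp⟩
  have happ : ∀ x, (c : Matrix ι ι K) *ᵥ x = g x := fun x => by
    show LinearMap.toMatrix' (g : (ι → K) →ₗ[K] (ι → K)) *ᵥ x = _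
    rw [← Matrix.toLin'_apply, Matrix.toLin'_toMatrix']; rfl
  refine ⟨⟨c, fun v _ => ?_⟩, fun x => by rw [equiv_apply]; exact happ x⟩
  show Q ((c : Matrix ι ι K) *ᵥ v) = Q v
  have h := hg v v
  simp only [polarBilin_apply_apply, polar_self] at h
  rw [happ]
  exact mul_left_cancel₀ h2 (by simpa [nsmul_eq_mul] using h)

theorem isConj_of_giso [Finite K] (h2 : (2 : K) ≠ 0) {A A' : Cfsg.isometryGroup K ⇑Q}
    (h : GIso (equiv A) (equiv A') (polarBilin Q) ⊤ ⊤) : IsConj A A' := by
  obtain ⟨f, hfg, hfB⟩ := h.exists_equiv (isom_equiv hnd A)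
  obtain ⟨C, hC⟩ := mem_of_polar h2 hfB
  refine isConj_iff.mpr ⟨C, mul_inv_eq_iff_eq_mul.mpr (Subtype.ext (Units.ext ?_))⟩
  refine Matrix.toLin'.injective (LinearMap.ext fun x => ?_)
  simp only [Subgroup.coe_mul, Units.val_mul, Matrix.toLin'_apply, ← mulVec_mulVec, ← equiv_apply, hC]
  exact hfg x

variable [Fintype K]

theorem exists_data (h2 : (2 : K) ≠ 0) (m : ℕ) (hι : Fintype.card ι = 2 * (m + 1)) (A : Cfsg.isometryGroup K ⇑Q) :
    ∃ l, Norm l ∧ Decomp (equiv A) (polarBilin Q) (1 : K) ⊤ l ∧ (∀ k ∈ l, k.Valid (1 : K)) ∧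
      (l.map Key.dim).sum = 2 * (m + 1) := by
  have hI := isom_equiv hnd A
  obtain ⟨l, hn, hd⟩ := exists_decomp h2 hI _ ⊤ le_rfl (fun _ _ => Submodule.mem_top)
    (fun x _ hx => hI.nondeg x fun y => hx y Submodule.mem_top)
  obtain ⟨hv, hf⟩ := hd.facts hI
  refine ⟨l, hn, hd, hv, ?_⟩
  rw [← hf, finrank_top, Module.finrank_fintype_fun_eq_card, hι]

/-- The classes of an orthogonal group in dimension `2n` number at most `9.5 q ^ n`. -/
theorem card_conjClasses_le (h2 : (2 : K) ≠ 0) {m : ℕ} (hm : 1 ≤ m) (hι : Fintype.card ι = 2 * (m + 1)) :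
    2 * Nat.card (ConjClasses (Cfsg.isometryGroup K ⇑Q)) ≤ 19 * Fintype.card K ^ (m + 1) := by
  choose l hn hd hv hdim using fun c : ConjClasses (Cfsg.isometryGroup K ⇑Q) => exists_data hnd h2 m hι c.out
  let f : ConjClasses (Cfsg.isometryGroup K ⇑Q) → Raw K m := fun c => code m (l c)
  have key : ∀ (c c' : ConjClasses (Cfsg.isometryGroup K ⇑Q)) (L : List (Key K)), (∀ k ∈ L, k.Valid (1 : K)) →
      Norm L → (L.map Key.dim).sum = 2 * (m + 1) → code m L = f c' → Decomp (equiv c'.out) (polarBilin Q) (1 : K) ⊤ L :=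
    fun c c' L hvL hnL hdL hcode =>
      (hd c').perm (isom_equiv hnd c'.out) (code_inj h2 m (hv c') hvL (hn c') hnL (hdim c') hdL hcode.symm)
  have hcode : ∀ c ∈ Set.range f, IsCode c := by
    rintro _ ⟨c, rfl⟩
    exact code_mem h2 m (hv c) (hn c) (hdim c)
  have hflip : ∀ c ∈ Set.range f, ∀ p, (c.2 p).1 ≠ (c.2 p).2 → flipAt p c ∉ Set.range f := by
    rintro _ ⟨c, rfl⟩ p hp ⟨c', hc'⟩
    obtain ⟨s, r, hperm, hN, hflip⟩ := exists_flip h2 m p (hn c) hp
    rw [← code_perm m hperm] at hflip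
    have hk := hv c (Key.sgn (rootAt p) (sizeAt p) s) (hperm.mem_iff.mpr List.mem_cons_self)
    have hvL : ∀ k ∈ Key.sgn (rootAt p : K) (sizeAt p) (!s) :: r, k.Valid (1 : K) := fun k hk' => by
      rcases List.mem_cons.mp hk' with rfl | h
      · exact hk
      · exact hv c k (hperm.mem_iff.mpr (List.mem_cons_of_mem _ h))
    have hdL : ((Key.sgn (rootAt p : K) (sizeAt p) (!s) :: r).map Key.dim).sum = 2 * (m + 1) := by
      rw [← hdim c, (hperm.map Key.dim).sum_eq]
      simp [Key.dim]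
    refine flip_not_both h2 (isom_equiv hnd c.out) (isom_equiv hnd c'.out) (by cases s <;> simp : s ≠ !s)
      ((hd c).perm (isom_equiv hnd c.out) hperm) (key c c' _ hvL hN hdL (hflip.trans hc'.symm))
  have hpush : ∀ c ∈ Set.range f, c.2 (0, 0) = (true, true) → push c ∉ Set.range f := by
    rintro _ ⟨c, rfl⟩ h0 ⟨c', hc'⟩
    obtain ⟨r, hperm, hN, hpush⟩ := exists_push h2 m (hn c) h0
    rw [← code_perm m hperm] at hpush
    have hk := hv c (Key.sgn 1 1 false) (hperm.mem_iff.mpr List.mem_cons_self)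
    have hvL : ∀ k ∈ Key.sgn (1 : K) 1 true :: r, k.Valid (1 : K) := fun k hk' => by
      rcases List.mem_cons.mp hk' with rfl | h
      · exact hk
      · exact hv c k (hperm.mem_iff.mpr (List.mem_cons_of_mem _ h))
    have hdL : ((Key.sgn (1 : K) 1 true :: r).map Key.dim).sum = 2 * (m + 1) := by
      rw [← hdim c, (hperm.map Key.dim).sum_eq]
      simp [Key.dim]
    exact flip_not_both h2 (isom_equiv hnd c.out) (isom_equiv hnd c'.out) (by simp : false ≠ true)
      ((hd c).perm (isom_equiv hnd c.out) hperm) (key c c' _ hvL hN hdL (hpush.trans hc'.symm))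
  have hf : Function.Injective f := fun c c' h => by
    have hc := isConj_of_giso hnd h2 (Decomp.iso h2 (isom_equiv hnd c.out) (isom_equiv hnd c'.out) (hd c)
      (key c c' _ (hv c) (hn c) (hdim c) h))
    have := ConjClasses.mk_eq_mk_iff_isConj.mpr hc
    rwa [show ConjClasses.mk c.out = c from Quotient.out_eq c, show ConjClasses.mk c'.out = c' from Quotient.out_eq c']
      at this
  have hq3 : 3 ≤ Fintype.card K := by
    have h1 : 1 < Fintype.card K := Fintype.one_lt_card
    by_contra h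
    refine h2 ?_
    have h2' : Fintype.card K = 2 := by omega
    simpa [h2'] using Nat.cast_card_eq_zero K
  obtain ⟨-, hle⟩ := card_le_of_flip h2 hq3 hm (Set.range f) hcode hflip hpush
  rwa [Nat.card_range_of_injective hf] at hle

/-- The classes of an orthogonal group in dimension `2n` number at least `q ^ n / 2`. -/
theorem le_card_conjClasses (h2 : (2 : K) ≠ 0) {n : ℕ} (hn : 2 ≤ n) (hι : Fintype.card ι = 2 * n) :
    Fintype.card K ^ n ≤ 2 * Nat.card (ConjClasses (Cfsg.isometryGroup K ⇑Q)) := by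
  let b := Pi.basisFun K ι
  have hsymm : ∀ x y, polarBilin Q x y = polarBilin Q y x := fun x y => QuadraticMap.polar_comm _ _ _
  have hδ := SymmDisc.det_ne_zero (polarBilin Q) hnd b
  refine le_trans (card_pal_type h2 hn hδ) (Nat.mul_le_mul_left 2 ?_)
  have hV : finrank K (ι → K) = 2 * n := by rw [Module.finrank_fintype_fun_eq_card, hι]
  choose g hgB hgc using fun f : {f : K[X] // SympClassCount.IsPal n f ∧ (f.eval 1 * f.eval (-1) = 0 ∨
      IsSquare ((LinearMap.toMatrix₂ b b (polarBilin Q)).det * (f.eval 1 * f.eval (-1))))} =>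
    exists_isometry h2 (by omega) (polarBilin Q) hsymm hnd hV b f.2.1 f.2.2
  choose A hA using fun f => mem_of_polar h2 (hgB f)
  refine Nat.card_le_card_of_injective (fun f => ConjClasses.mk (A f)) fun f f' h => Subtype.ext ?_
  obtain ⟨C, hC⟩ := isConj_iff.mp (ConjClasses.mk_eq_mk_iff_isConj.mp h)
  have hch : ∀ f, ((A f : GL ι K) : Matrix ι ι K).charpoly = f.1 := fun f => by
    rw [← Matrix.charpoly_toLin', ← hgc f]
    congr 1
    exact LinearMap.ext fun x => by rw [Matrix.toLin'_apply, ← equiv_apply]; exact hA f x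
  rw [← hch f, ← hch f', ← hC]
  simp only [Subgroup.coe_mul, Units.val_mul, Subgroup.coe_inv]
  rw [Matrix.coe_units_inv, Matrix.charpoly_units_conj]

end CfsgLib.Classical.OrthClassBound
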